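import Mathlib

/-!
# Real elements and extended centralizers

`cst x` is the subgroup of the elements that map `x` to `x` or `x⁻¹`. For a real element `x` with
`x * x ≠ 1` the centralizer has index 2 in `cst x`.
-/

set_option autoImplicit false

namespace Cfsg.Agent.H466.RT

open Subgroup

variable {G : Type*} [Group G]

/-- The exponent of 2 in `n`. -/
def nu (n : ℕ) : ℕ := n.factorization 2

/-- The elements that map `x` to `x` or `x⁻¹`. -/
def cst (x : G) : Subgroup G where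
  carrier := {g | g * x * g⁻¹ = x ∨ g * x * g⁻¹ = x⁻¹}
  one_mem' := by left; simp
  mul_mem' := by
    rintro a b (ha | ha) (hb | hb)
    · left
      have : a * b * x * (a * b)⁻¹ = a * (b * x * b⁻¹) * a⁻¹ := by group
      rw [this, hb, ha]
    · right
      have : a * b * x * (a * b)⁻¹ = (a * (b * x * b⁻¹)⁻¹ * a⁻¹)⁻¹ := by group
      rw [this, hb, inv_inv, ha]
    · right
      have : a * b * x * (a * b)⁻¹ = a * (b * x * b⁻¹) * a⁻¹ := by group
      rw [this, hb, ha]
    · left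
      have : a * b * x * (a * b)⁻¹ = (a * (b * x * b⁻¹)⁻¹ * a⁻¹)⁻¹ := by group
      rw [this, hb, inv_inv, ha, inv_inv]
  inv_mem' := by
    rintro a (ha | ha)
    · left
      rw [inv_inv]
      calc a⁻¹ * x * a = a⁻¹ * (a * x * a⁻¹) * a := by rw [ha]
        _ = x := by group
    · right
      rw [inv_inv]
      calc a⁻¹ * x * a = (a⁻¹ * x⁻¹ * a)⁻¹ := by group
        _ = (a⁻¹ * (a * x * a⁻¹) * a)⁻¹ := by rw [ha]
        _ = x⁻¹ := by group

theorem mem_cst {x g : G} : g ∈ cst x ↔ g * x * g⁻¹ = x ∨ g * x * g⁻¹ = x⁻¹ := Iff.rfl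

theorem mem_cent {x g : G} : g ∈ centralizer ({x} : Set G) ↔ g * x * g⁻¹ = x := by
  rw [mem_centralizer_singleton_iff, mul_inv_eq_iff_eq_mul]

theorem cent_le_cst (x : G) : centralizer ({x} : Set G) ≤ cst x := fun _ hg => Or.inl (mem_cent.1 hg)

theorem nu_mul {a b : ℕ} (ha : a ≠ 0) (hb : b ≠ 0) : nu (a * b) = nu a + nu b := by
  unfold nu
  rw [Nat.factorization_mul ha hb]
  rfl

theorem nu_le {a b : ℕ} (hb : b ≠ 0) (h : a ∣ b) : nu a ≤ nu b := by
  obtain ⟨c, rfl⟩ := h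
  have ha : a ≠ 0 := fun h => hb (by rw [h, zero_mul])
  have hc : c ≠ 0 := fun h => hb (by rw [h, mul_zero])
  rw [nu_mul ha hc]
  omega

theorem nu_two_pow (n : ℕ) : nu (2 ^ n) = n := by
  unfold nu
  rw [Nat.Prime.factorization_pow Nat.prime_two]
  simp

theorem nu_two : nu 2 = 1 := by
  have := nu_two_pow 1
  rwa [pow_one] at this

theorem nu_odd {n : ℕ} (h : Odd n) : nu n = 0 :=
  Nat.factorization_eq_zero_of_not_dvd (by
    intro h2
    rw [Nat.odd_iff] at h
    omega)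

theorem dvd_of_le_nu {n k : ℕ} (hn : n ≠ 0) (h : k ≤ nu n) : 2 ^ k ∣ n :=
  (Nat.Prime.pow_dvd_iff_le_factorization Nat.prime_two hn).2 h

theorem le_nu_of_dvd {n k : ℕ} (hn : n ≠ 0) (h : 2 ^ k ∣ n) : k ≤ nu n :=
  (Nat.Prime.pow_dvd_iff_le_factorization Nat.prime_two hn).1 h

section Fin

variable [Finite G]

theorem card_ne (H : Subgroup G) : Nat.card H ≠ 0 := Nat.card_pos.ne'

theorem nu_card_le {H K : Subgroup G} (h : H ≤ K) : nu (Nat.card H) ≤ nu (Nat.card K) :=
  nu_le (card_ne K) (card_dvd_of_le h)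

/-- A 2-subgroup of `K` has order at most `2 ^ nu |K|`. -/
theorem exists_pow_of_two {P K : Subgroup G} (hP : IsPGroup 2 P) (h : P ≤ K) :
    ∃ n, Nat.card P = 2 ^ n ∧ n ≤ nu (Nat.card K) := by
  obtain ⟨n, hn⟩ := IsPGroup.iff_card.1 hP
  refine ⟨n, hn, ?_⟩
  have := nu_card_le h
  rwa [hn, nu_two_pow] at this

/-- `K` has a Sylow 2-subgroup. -/
theorem exists_sylow (K : Subgroup G) {A : Subgroup G} (hA : IsPGroup 2 A) (hAK : A ≤ K) :
    ∃ P : Subgroup G, P ≤ K ∧ A ≤ P ∧ IsPGroup 2 P ∧ Nat.card P = 2 ^ nu (Nat.card K) := by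
  have : Fact (Nat.Prime 2) := ⟨Nat.prime_two⟩
  obtain ⟨S, hS⟩ := (hA.comap_subtype (K := K)).exists_le_sylow
  refine ⟨(S : Subgroup K).map K.subtype, map_subtype_le _, ?_, S.isPGroup'.map _, ?_⟩
  · intro a ha
    exact ⟨⟨a, hAK ha⟩, hS ha, rfl⟩
  · rw [card_map_of_injective K.subtype_injective]
    exact Sylow.card_eq_multiplicity S

theorem relIndex_cent_cst {x : G} (hr : ∃ g : G, g * x * g⁻¹ = x⁻¹) (h2 : x * x ≠ 1) :
    (centralizer ({x} : Set G)).relIndex (cst x) = 2 := by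
  obtain ⟨t, ht⟩ := hr
  rw [relIndex, index_eq_two_iff]
  refine ⟨⟨t, Or.inr ht⟩, ?_⟩
  rintro ⟨b, hb⟩
  have hxx : x⁻¹ ≠ x := fun h => h2 (by
    calc x * x = x * x⁻¹ := by rw [h]
      _ = 1 := mul_inv_cancel x)
  have h1 : b * t * x * (b * t)⁻¹ = (b * x * b⁻¹)⁻¹ := by
    calc b * t * x * (b * t)⁻¹ = b * (t * x * t⁻¹) * b⁻¹ := by group
      _ = b * x⁻¹ * b⁻¹ := by rw [ht]
      _ = (b * x * b⁻¹)⁻¹ := by group
  simp only [mem_subgroupOf, mem_cent]
  change Xor' (b * t * x * (b * t)⁻¹ = x) (b * x * b⁻¹ = x)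
  rw [h1]
  rcases hb with hb | hb
  · right
    exact ⟨hb, by rw [hb]; exact hxx⟩
  · left
    exact ⟨by rw [hb, inv_inv], by rw [hb]; exact hxx⟩

/-- K1: for a real element which is not an involution the order of `cst x` is twice that of the
centralizer. -/
theorem card_cst {x : G} (hr : ∃ g : G, g * x * g⁻¹ = x⁻¹) (h2 : x * x ≠ 1) :
    Nat.card (cst x) = 2 * Nat.card (centralizer ({x} : Set G)) := by
  have h := card_mul_index ((centralizer ({x} : Set G)).subgroupOf (cst x))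
  have h3 : ((centralizer ({x} : Set G)).subgroupOf (cst x)).index = 2 := relIndex_cent_cst hr h2
  rw [h3, Nat.card_congr (subgroupOfEquivOfLe (cent_le_cst x)).toEquiv] at h
  omega

theorem nu_cst {x : G} (hr : ∃ g : G, g * x * g⁻¹ = x⁻¹) (h2 : x * x ≠ 1) :
    nu (Nat.card (cst x)) = nu (Nat.card (centralizer ({x} : Set G))) + 1 := by
  rw [card_cst hr h2, nu_mul (by norm_num) (card_ne _), nu_two]
  omega

end Fin

/-- `x` is real. -/
def Real' (x : G) : Prop := ∃ g : G, g * x * g⁻¹ = x⁻¹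

theorem real_iff {x : G} : Real' x ↔ IsConj x x⁻¹ := by
  rw [isConj_iff]
  rfl

theorem Real'.of_sq {x : G} (h : x * x = 1) : Real' x :=
  ⟨1, by rw [one_mul, inv_one, mul_one]; exact eq_inv_of_mul_eq_one_left h⟩

/-- All noncentral real elements have centralizers with the same 2-part `2 ^ c`. -/
def REq (G : Type*) [Group G] (c : ℕ) : Prop :=
  ∀ x : G, Real' x → x ∉ center G → nu (Nat.card (centralizer ({x} : Set G))) = c

theorem cst_le_of_mem_zpowers {u d : G} (hd : d ∈ zpowers u) (hd2 : d * d = 1) :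
    cst u ≤ centralizer ({d} : Set G) := by
  obtain ⟨k, rfl⟩ := hd
  intro g hg
  rw [mem_cent]
  change g * u ^ k * g⁻¹ = u ^ k
  rw [← conj_zpow]
  rcases hg with hg | hg
  · rw [hg]
  · rw [hg, inv_zpow]
    exact inv_eq_of_mul_eq_one_left hd2

/-- (Q'): a real element which is not an involution has no noncentral involution among its powers. -/
theorem REq.false_of_pow [Finite G] {c : ℕ} (h : REq G c) {u d : G} (hu : Real' u) (hu2 : u * u ≠ 1)
    (hd : d ∈ zpowers u) (hd2 : d * d = 1) (hdc : d ∉ center G) : False := by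
  have huc : u ∉ center G := fun huc => hdc (by
    have : zpowers u ≤ center G := by rw [zpowers_le]; exact huc
    exact this hd)
  have h1 := h u hu huc
  have h2 := h d (Real'.of_sq hd2) hdc
  have h3 := nu_cst hu hu2
  have h4 := nu_card_le (cst_le_of_mem_zpowers hd hd2)
  omega

/-- An odd power of an element inverting `x` inverts `x`. -/
theorem odd_pow_inv {x g : G} (hg : g * x * g⁻¹ = x⁻¹) (k : ℕ) :
    g ^ (2 * k + 1) * x * (g ^ (2 * k + 1))⁻¹ = x⁻¹ := by
  have h2 : g ^ 2 * x * (g ^ 2)⁻¹ = x := by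
    have : g ^ 2 * x * (g ^ 2)⁻¹ = g * (g * x * g⁻¹) * g⁻¹ := by
      rw [pow_two]; group
    rw [this, hg]
    have : g * x⁻¹ * g⁻¹ = (g * x * g⁻¹)⁻¹ := by group
    rw [this, hg, inv_inv]
  induction k with
  | zero => simpa using hg
  | succ k ih =>
    have : g ^ (2 * (k + 1) + 1) * x * (g ^ (2 * (k + 1) + 1))⁻¹
        = g ^ (2 * k + 1) * (g ^ 2 * x * (g ^ 2)⁻¹) * (g ^ (2 * k + 1))⁻¹ := by
      have e : 2 * (k + 1) + 1 = (2 * k + 1) + 2 := by ring
      rw [e, pow_add g (2 * k + 1) 2]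
      group
    rw [this, h2, ih]

/-- A real element of odd order is inverted by a 2-element. -/
theorem exists_two_inv [Finite G] {x : G} (hx : Real' x) :
    ∃ t : G, t * x * t⁻¹ = x⁻¹ ∧ IsPGroup 2 (zpowers t) := by
  obtain ⟨g, hg⟩ := hx
  obtain ⟨a, m, hm, hgm⟩ := Nat.exists_eq_two_pow_mul_odd (orderOf_pos g).ne'
  obtain ⟨k, rfl⟩ := hm
  refine ⟨g ^ (2 * k + 1), odd_pow_inv hg k, ?_⟩
  apply IsPGroup.of_card_dvd_pow (n := a)
  rw [Nat.card_zpowers, orderOf_dvd_iff_pow_eq_one, ← pow_mul]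
  have e : (2 * k + 1) * 2 ^ a = orderOf g := by rw [hgm]; ring
  rw [e, pow_orderOf_eq_one]

/-- (C): when some real element is not an involution, the involutions of the centre of a Sylow
2-subgroup are central. -/
theorem REq.central [Finite G] {c : ℕ} (h : REq G c) {x : G} (hx : Real' x) (hx2 : x * x ≠ 1)
    {P : Subgroup G} (hP : nu (Nat.card P) = nu (Nat.card G)) {z : G} (hz : z * z = 1)
    (hzP : ∀ p ∈ P, p * z * p⁻¹ = z) : z ∈ center G := by
  by_contra hzc
  have h1 := h z (Real'.of_sq hz) hzc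
  have hxc : x ∉ center G := by
    intro hxc
    obtain ⟨g, hg⟩ := hx
    apply hx2
    have h3 : g * x = x * g := mem_center_iff.1 hxc g
    rw [h3, mul_inv_cancel_right] at hg
    calc x * x = x * x⁻¹ := by rw [← hg]
      _ = 1 := mul_inv_cancel x
  have h2 := h x hx hxc
  have h3 := nu_cst hx hx2
  have h4 : nu (Nat.card (cst x)) ≤ nu (Nat.card G) := nu_le Nat.card_pos.ne' (card_subgroup_dvd_card _)
  have h5 := nu_card_le (H := P) (K := centralizer ({z} : Set G)) (fun p hp => mem_cent.2 (hzP p hp))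
  omega

end Cfsg.Agent.H466.RT
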