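import Cfsg.Agent.H466.RT.OTwo
import Cfsg.Agent.EvenType.KSection
import Cfsg.Agent.SignalizersComponents.PConstrained
import Cfsg.Agent.SignalizersComponents.LayerCenter
import Cfsg.Agent.SignalizersComponents.LayerBasic
import Cfsg.Agent.StdLThreeFour.Syl

/-!
# A component with even centre

If all noncentral real elements of `G` have centralizers with the same 2-part, `O(G) = 1` and some real
element `x ≠ 1` has odd order, then `G` has a component `K` whose centre is a nontrivial 2-group, and
the real elements of `K` outside `Z(K)` have centralizers in `N(K)` with the same 2-part (`Pair`).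
-/

set_option autoImplicit false

namespace Cfsg.Agent.H466.RT

open Subgroup Cfsg

variable {G : Type*} [Group G]

/-- `K` is a normal quasisimple subgroup of `M` with centre a nontrivial 2-group, and the real elements of
`M` in `K` outside `Z(K)` have centralizers with the same 2-part. -/
structure Pair (M : Type*) [Group M] (K : Subgroup M) (c : ℕ) : Prop where
  nrm : K.Normal
  qs : IsQuasisimple K
  z2 : IsPGroup 2 (center K)
  zne : center K ≠ ⊥
  req : ∀ x ∈ K, Real' x → (∃ k ∈ K, k * x ≠ x * k) → nu (Nat.card (centralizer ({x} : Set M))) = c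

theorem exists_component [Finite G] {c : ℕ} (h : REq G c) (hO : pPrimeCore 2 G = ⊥) {x : G} (hx : Real' x)
    (ho : Odd (orderOf x)) (hx1 : x ≠ 1) :
    ∃ K : Subgroup G, IsComponent K ∧ IsPGroup 2 (center K) ∧ center K ≠ ⊥ := by
  have : Fact (Nat.Prime 2) := ⟨Nat.prime_two⟩
  have hxx : x * x ≠ 1 := by
    intro h2
    apply hx1
    rw [← orderOf_eq_one_iff]
    have h3 : orderOf x ∣ 2 := orderOf_dvd_of_pow_eq_one (by rw [pow_two]; exact h2)
    rcases (Nat.dvd_prime Nat.prime_two).1 h3 with h4 | h4
    · exact h4
    · rw [h4] at ho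
      exact absurd ho (by decide)
  have hE : layer G ≠ ⊥ := by
    intro hE
    have h1 := (SignalizersComponents.PConstrained.centralizer_pCore_le_iff_layer_eq_bot 2 hO).2 hE
    have hn : (pCore 2 G).Normal := Lib.Cores.pCore_normal 2
    have hp : IsPGroup 2 (pCore 2 G) := Lib.Cores.pCore_isPGroup 2
    have h2 := h.comm_of_normal hx ho (pCore 2 G) hp
    have h3 : x ∈ centralizer (pCore 2 G : Set G) := by
      rw [mem_centralizer_iff]
      intro b hb
      have h4 := h2 b hb
      rw [mul_inv_eq_iff_eq_mul] at h4
      exact h4.symm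
    exact hx1 (isPGroup_of_le_odd_eq_one hp (h1 h3) ho)
  have hEn : (layer G).Normal := SignalizersComponents.LayerBasic.layer_normal G
  have hE2 : 2 ∣ Nat.card (layer G) := by
    by_contra hcon
    apply hE
    rw [eq_bot_iff, ← hO]
    apply le_sSup
    refine ⟨hEn, ?_⟩
    exact ((Nat.Prime.coprime_iff_not_dvd Nat.prime_two).2 hcon).symm
  obtain ⟨P, -, -, hP2, hPc⟩ := exists_sylow (⊤ : Subgroup G) (A := ⊥) IsPGroup.of_bot bot_le
  obtain ⟨z, hzE, hz1, hzz, hzP⟩ := StdLThreeFour.Syl.exists_invol_commute hP2
    (fun q _ y hy => hEn.conj_mem y hy q) hE2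
  have hzc : z ∈ center G := by
    apply h.central hx hxx (P := P) (by rw [hPc, nu_two_pow, card_top]) hzz
    intro p hp
    have h1 : p * z = z * p := hzP p hp
    rw [h1, mul_inv_cancel_right]
  have hz : z ∈ (center (layer G)).map (layer G).subtype := by
    refine ⟨⟨z, hzE⟩, ?_, rfl⟩
    rw [SetLike.mem_coe, mem_center_iff]
    intro g
    apply Subtype.ext
    exact mem_center_iff.1 hzc g
  rw [SignalizersComponents.LayerCenter.map_center_layer] at hz
  have hex : ∃ L : {K : Subgroup G // IsComponent K}, center (L : Subgroup G) ≠ ⊥ := by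
    by_contra hcon
    push Not at hcon
    have h1 : (⨆ L : {K : Subgroup G // IsComponent K}, (center ↥(L : Subgroup G)).map (L : Subgroup G).subtype) = ⊥ := by
      rw [iSup_eq_bot]
      intro L
      rw [hcon L, Subgroup.map_bot]
    rw [h1, mem_bot] at hz
    exact hz1 hz
  obtain ⟨⟨K, hK⟩, hKc⟩ := hex
  exact ⟨K, hK, EvenType.KSection.isPGroup_center_of_subnormal Nat.prime_two hO hK.1, hKc⟩

/-- centralizers of noncentral elements of a component normalize the component -/
theorem cst_le_normalizer {K : Subgroup G} (hK : IsComponent K) {x : G} (hxK : x ∈ K)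
    (hne : ∃ k ∈ K, k * x ≠ x * k) : centralizer ({x} : Set G) ≤ normalizer (K : Set G) := by
  intro g hg
  rw [mem_cent] at hg
  by_contra hcon
  have h1 : IsComponent (K.map (MulAut.conj g).toMonoidHom) :=
    SignalizersComponents.Components.isComponent_conj g hK
  have h2 : K ≠ K.map (MulAut.conj g).toMonoidHom := by
    intro h2
    apply hcon
    rw [mem_normalizer_iff]
    intro y
    constructor
    · intro hy
      rw [h2]
      exact ⟨y, hy, rfl⟩
    · intro hy
      rw [h2] at hy
      obtain ⟨y', hy', he⟩ := hy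
      have h3 : y = y' := by
        have h4 : g * y' * g⁻¹ = g * y * g⁻¹ := he
        exact (mul_left_cancel (mul_right_cancel h4)).symm
      rw [h3]
      exact hy'
  have h3 := SignalizersComponents.Components.component_le_centralizer_of_ne hK h1 h2
  obtain ⟨k, hk, hkx⟩ := hne
  apply hkx
  have h4 := mem_centralizer_iff.1 (h3 hk) x ⟨x, hxK, hg⟩
  exact h4.symm

theorem pair_of_component [Finite G] {c : ℕ} (h : REq G c) {K : Subgroup G} (hK : IsComponent K)
    (hz : IsPGroup 2 (center K)) (hne : center K ≠ ⊥) :
    Pair (normalizer (K : Set G)) (K.subgroupOf (normalizer (K : Set G))) c := by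
  have e : K.subgroupOf (normalizer (K : Set G)) ≃* K := subgroupOfEquivOfLe le_normalizer
  have hc : (center (K.subgroupOf (normalizer (K : Set G)))).map e.toMonoidHom = center K :=
    SignalizersComponents.LayerBasic.map_center_equiv e
  have ez : center (K.subgroupOf (normalizer (K : Set G))) ≃* center K :=
    (equivMapOfInjective _ _ e.injective).trans (MulEquiv.subgroupCongr hc)
  refine ⟨inferInstance, SignalizersComponents.Components.isQuasisimple_of_mulEquiv e.symm hK.2,
    hz.of_equiv ez.symm, ?_, ?_⟩
  · intro h1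
    apply hne
    rw [← hc, h1, Subgroup.map_bot]
  · rintro x hx ⟨g, hg⟩ ⟨k, hk, hkx⟩
    rw [mem_subgroupOf] at hx hk
    have h1 : ∃ k ∈ K, k * (x : G) ≠ x * k := ⟨k, hk, fun h => hkx (Subtype.ext h)⟩
    have h2 : Real' (x : G) := ⟨g, congrArg Subtype.val hg⟩
    have h3 : (x : G) ∉ center G := fun h3 => by
      obtain ⟨k, hk, hkx⟩ := h1
      exact hkx (mem_center_iff.1 h3 k)
    rw [← h x h2 h3]
    have h4 := cst_le_normalizer hK hx h1
    have h5 : (centralizer ({(x : G)} : Set G)).subgroupOf (normalizer (K : Set G)) =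
        centralizer ({x} : Set (normalizer (K : Set G))) := by
      ext y
      rw [mem_subgroupOf, mem_cent, mem_cent]
      exact ⟨fun h => Subtype.ext h, fun h => congrArg Subtype.val h⟩
    rw [← h5, Nat.card_congr (subgroupOfEquivOfLe h4).toEquiv]

end Cfsg.Agent.H466.RT
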