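import Cfsg.Agent.H466.RT.DFive
import Cfsg.Prelude.Def_SporCoxeter

/-!
# Coxeter relations in presented groups
-/

set_option autoImplicit false

namespace Cfsg.Agent.H466.RT

open Subgroup Cfsg.Spor

section Basic

variable {α : Type*} [DecidableEq α] {edges : List (α × ℕ × α)} {extra : List (FreeGroup α)}

/-- the generators -/
def gn (edges : List (α × ℕ × α)) (extra : List (FreeGroup α)) (x : α) : CoxPresented α edges extra :=
  PresentedGroup.of x

theorem gn_rel {x y : α} (hx : x ∈ coxNodes edges) (hy : y ∈ coxNodes edges) :
    (gn edges extra x * gn edges extra y) ^ coxLabel edges x y = 1 := by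
  have h1 : ((FreeGroup.of x * FreeGroup.of y) ^ coxLabel edges x y : FreeGroup α) ∈
      coxRelators edges ∪ {r | r ∈ extra} := Or.inl ⟨x, hx, y, hy, rfl⟩
  have h2 := PresentedGroup.one_of_mem h1
  rw [map_pow, map_mul] at h2
  exact h2

theorem gn_extra {r : FreeGroup α} (hr : r ∈ extra) :
    (PresentedGroup.mk (coxRelators edges ∪ {r | r ∈ extra}) r : CoxPresented α edges extra) = 1 :=
  PresentedGroup.one_of_mem (Or.inr hr)

theorem gn_sq {x : α} (hx : x ∈ coxNodes edges) : gn edges extra x * gn edges extra x = 1 := by
  have h1 := gn_rel (extra := extra) hx hx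
  rwa [coxLabel, if_pos rfl, pow_one] at h1

theorem gn_comm {x y : α} (hx : x ∈ coxNodes edges) (hy : y ∈ coxNodes edges) (h : coxLabel edges x y = 2) :
    gn edges extra x * gn edges extra y = gn edges extra y * gn edges extra x := by
  have h1 := gn_rel (extra := extra) hx hy
  rw [h, pow_two] at h1
  have h2 := eq_inv_of_mul_eq_one_left h1
  rw [mul_inv_rev, inv_eq_of_mul_eq_one_left (gn_sq (extra := extra) hx),
    inv_eq_of_mul_eq_one_left (gn_sq (extra := extra) hy)] at h2
  exact h2

theorem gn_braid {x y : α} (hx : x ∈ coxNodes edges) (hy : y ∈ coxNodes edges) (h : coxLabel edges x y = 3) :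
    gn edges extra x * gn edges extra y * gn edges extra x =
      gn edges extra y * gn edges extra x * gn edges extra y := by
  have h1 := gn_rel (extra := extra) hx hy
  have hx1 := inv_eq_of_mul_eq_one_left (gn_sq (extra := extra) hx)
  have hy1 := inv_eq_of_mul_eq_one_left (gn_sq (extra := extra) hy)
  set a := gn edges extra x
  set b := gn edges extra y
  rw [h, pow_succ, pow_two] at h1
  have h2 : a * b * a * (b * a * b) = 1 := by rw [← h1]; simp only [mul_assoc]
  have h3 := eq_inv_of_mul_eq_one_left h2
  rw [h3, mul_inv_rev, mul_inv_rev, hx1, hy1, mul_assoc]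

end Basic

section Step

variable {G : Type*} [Group G]

/-- `p` braids with `a` and commutes with `b = a`: then `p = a` -/
theorem eq_of_step {p a b : G} (hp : p * p = 1) (ha : a * a = 1) (hab : a = b) (h1 : p * a * p = a * p * a)
    (h2 : p * b = b * p) : p = a := by
  rw [← hab] at h2
  calc p = p * a * a := by rw [mul_assoc, ha, mul_one]
    _ = (a * p) * a := by rw [h2]
    _ = p * a * p := h1.symm
    _ = a * (p * p) := by rw [h2, mul_assoc]
    _ = a := by rw [hp, mul_one]

/-- a group generated by the values of a constant family is commutative -/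
theorem comm_of_const {ι : Type*} (t : ι → G) (hcl : closure (Set.range t) = ⊤) (s : G) (h : ∀ i, t i = s)
    (a b : G) : a * b = b * a := by
  have h1 : ∀ g : G, g ∈ zpowers s := by
    intro g
    have h2 : closure (Set.range t) ≤ zpowers s := by
      rw [closure_le]
      rintro _ ⟨i, rfl⟩
      rw [h i]
      exact mem_zpowers s
    rw [hcl] at h2
    exact h2 (mem_top g)
  obtain ⟨m, rfl⟩ := mem_zpowers_iff.1 (h1 a)
  obtain ⟨n, rfl⟩ := mem_zpowers_iff.1 (h1 b)
  rw [← zpow_add, ← zpow_add, add_comm]

/-- `Q8` from commuting groups of order 8 and 4 -/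
theorem isQ_of {f g u a : G} (hf : f * f = 1) (hfg : f * g * (f * g) = a) (hg : g * g = 1) (hu : u * u = a)
    (huf : u * f = f * u) (hug : u * g = g * u) (ha : a ≠ 1) : IsQ (f * g) (f * u) := by
  refine ⟨?_, ?_, ?_⟩
  · calc f * g * (f * g) = u * u := by rw [hfg, hu]
      _ = f * f * (u * u) := by rw [hf, one_mul]
      _ = f * u * (f * u) := by
        calc f * f * (u * u) = f * (f * u) * u := by simp only [mul_assoc]
          _ = f * (u * f) * u := by rw [huf]
          _ = f * u * (f * u) := by simp only [mul_assoc]
  · have h1 : f * g * (f * u) = u * (f * g * f) := by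
      calc f * g * (f * u) = f * g * (u * f) := by rw [huf]
        _ = f * (g * u) * f := by simp only [mul_assoc]
        _ = (f * u) * g * f := by rw [← hug]; simp only [mul_assoc]
        _ = u * (f * g * f) := by rw [← huf]; simp only [mul_assoc]
    have h2 : u * (f * g * f) = f * g * f * u := by
      calc u * (f * g * f) = f * g * (f * u) := h1.symm
        _ = f * g * f * u := by simp only [mul_assoc]
    have h3 : f * g * f * (f * g * f) = 1 := by
      calc f * g * f * (f * g * f) = f * (g * (f * f) * g) * f := by simp only [mul_assoc]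
        _ = 1 := by rw [hf, mul_one, hg, mul_one, hf]
    calc f * g * (f * u) * (f * g * (f * u)) = u * (f * g * f) * (f * g * f * u) := by rw [h1, h2]
      _ = u * (f * g * f * (f * g * f)) * u := by simp only [mul_assoc]
      _ = f * g * (f * g) := by rw [h3, mul_one, hu, hfg]
  · rw [hfg]
    exact ha

end Step

end Cfsg.Agent.H466.RT
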