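import Cfsg.Agent.H466.RT.SLThree

/-!
# `SL(2, 3)` from involutions satisfying the Coxeter relations of type `D₅`
-/

set_option autoImplicit false

namespace Cfsg.Agent.H466.RT

open Subgroup
open scoped commutatorElement

/-- Coxeter relations of type `D₅`: the path `w - x - c` and the two leaves `y`, `z` at `c` -/
structure DFive {O : Type*} [Group O] (w x c y z : O) : Prop where
  ww : w * w = 1
  xx : x * x = 1
  cc : c * c = 1
  yy : y * y = 1
  zz : z * z = 1
  wx : w * x * w = x * w * x
  xc : x * c * x = c * x * c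
  yc : y * c * y = c * y * c
  zc : z * c * z = c * z * c
  wc : w * c = c * w
  wy : w * y = y * w
  wz : w * z = z * w
  xy : x * y = y * x
  xz : x * z = z * x
  yz : y * z = z * y

namespace DFive

variable {O : Type*} [Group O] {w x c y z : O}

theorem map {Y : Type*} [Group Y] (f : O →* Y) (h : DFive w x c y z) :
    DFive (f w) (f x) (f c) (f y) (f z) := by
  constructor <;> simp only [← map_mul, h.ww, h.xx, h.cc, h.yy, h.zz, h.wx, h.xc, h.yc, h.zc, h.wc, h.wy, h.wz,
    h.xy, h.xz, h.yz, map_one]

/-- the element of order 4 -/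
def qi (x c y z : O) : O := x * c * y * c * z * c

theorem relB (h : DFive w x c y z) :
    y * c * qi x c y z * (y * c) = qi x c y z * (c * y) * qi x c y z := by
  have e1 : y * z * y = z := by rw [h.yz, mul_assoc, h.yy, mul_one]
  have e2 : z * y * z = y := by rw [← h.yz, mul_assoc, h.zz, mul_one]
  calc y * c * qi x c y z * (y * c) = y * (c * x * c) * y * (c * z * c) * y * c := by
        simp only [qi, mul_assoc]
    _ = (y * x) * c * x * y * z * c * (z * y) * c := by
        rw [← h.xc, ← h.zc]; simp only [mul_assoc]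
    _ = x * y * c * (x * y * z) * c * (y * z) * c := by
        rw [← h.xy, ← h.yz]; simp only [mul_assoc]
    _ = x * y * c * z * x * (y * c * y) * z * c := by
        have : x * y * z = z * x * y := by rw [mul_assoc, h.yz, ← mul_assoc, h.xz]
        rw [this]; simp only [mul_assoc]
    _ = x * (y * c * (y * z * y)) * x * (c * y * c) * z * c := by
        rw [h.yc, e1]; simp only [mul_assoc]
    _ = x * (y * c * y) * z * y * x * (c * y * c) * z * c := by simp only [mul_assoc]
    _ = x * (c * y * c) * z * (c * c) * y * x * (c * y * c) * z * c := by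
        rw [h.yc, h.cc]; simp only [mul_assoc, mul_one, one_mul]
    _ = qi x c y z * (c * y) * qi x c y z := by simp only [qi, mul_assoc]

/-- the sign change -/
def sg (c y z : O) : O := c * (y * z) * c

theorem sg_sq (h : DFive w x c y z) : sg c y z * sg c y z = 1 := by
  calc sg c y z * sg c y z = c * (y * z) * (c * c) * (y * z) * c := by simp only [sg, mul_assoc]
    _ = c * (y * z * y * z) * c := by rw [h.cc]; simp only [mul_assoc, one_mul]
    _ = c * ((z * y) * y * z) * c := by rw [h.yz]
    _ = c * (z * (y * y) * z) * c := by simp only [mul_assoc]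
    _ = 1 := by rw [h.yy, mul_one, h.zz, mul_one, h.cc]

theorem sg_y (h : DFive w x c y z) : sg c y z * y * sg c y z = z := by
  have e1 : y * z * y = z := by rw [h.yz, mul_assoc, h.yy, mul_one]
  calc sg c y z * y * sg c y z = c * (y * z) * (c * y * c) * (y * z) * c := by simp only [sg, mul_assoc]
    _ = c * (y * z * y) * c * (y * y) * z * c := by rw [← h.yc]; simp only [mul_assoc]
    _ = (c * z * c) * z * c := by rw [h.yy, e1]; simp only [mul_assoc, mul_one, one_mul]
    _ = z * c * (z * z) * c := by rw [← h.zc]; simp only [mul_assoc]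
    _ = z := by rw [h.zz, mul_one, mul_assoc, h.cc, mul_one]

theorem qi_eq (h : DFive w x c y z) : qi x c y z = x * y * sg c y z := by
  calc qi x c y z = x * (c * y * c) * z * c := by simp only [qi, mul_assoc]
    _ = x * y * sg c y z := by rw [← h.yc]; simp only [sg, mul_assoc]

/-- the reflection in the highest root -/
def tt (x c y z : O) : O := sg c y z * x * sg c y z

theorem y_sg (h : DFive w x c y z) : y * sg c y z = sg c y z * z := by
  have h1 := h.sg_y
  have h2 := h.sg_sq
  set s := sg c y z
  calc y * s = (s * s) * y * s := by rw [h2, one_mul]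
    _ = s * (s * y * s) := by simp only [mul_assoc]
    _ = s * z := by rw [h1]

theorem z_sg (h : DFive w x c y z) : z * sg c y z = sg c y z * y := by
  have h1 := h.sg_y
  have h2 := h.sg_sq
  set s := sg c y z
  calc z * s = s * y * (s * s) := by rw [← h1]; simp only [mul_assoc]
    _ = s * y := by rw [h2, mul_one]

theorem y_tt (h : DFive w x c y z) : y * tt x c y z = tt x c y z * y := by
  calc y * tt x c y z = (y * sg c y z) * x * sg c y z := by simp only [tt, mul_assoc]
    _ = sg c y z * (z * x) * sg c y z := by rw [h.y_sg]; simp only [mul_assoc]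
    _ = sg c y z * x * (z * sg c y z) := by rw [← h.xz]; simp only [mul_assoc]
    _ = tt x c y z * y := by rw [h.z_sg]; simp only [tt, mul_assoc]

theorem z_tt (h : DFive w x c y z) : z * tt x c y z = tt x c y z * z := by
  calc z * tt x c y z = (z * sg c y z) * x * sg c y z := by simp only [tt, mul_assoc]
    _ = sg c y z * (y * x) * sg c y z := by rw [h.z_sg]; simp only [mul_assoc]
    _ = sg c y z * x * (y * sg c y z) := by rw [← h.xy]; simp only [mul_assoc]
    _ = tt x c y z * z := by rw [h.y_sg]; simp only [tt, mul_assoc]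

theorem qi_sq (h : DFive w x c y z) : qi x c y z * qi x c y z = x * tt x c y z * (y * z) := by
  calc qi x c y z * qi x c y z = x * y * (sg c y z * x * (y * sg c y z)) := by
        rw [h.qi_eq]; simp only [mul_assoc]
    _ = x * (y * tt x c y z) * z := by rw [h.y_sg]; simp only [tt, mul_assoc]
    _ = x * tt x c y z * (y * z) := by rw [h.y_tt]; simp only [mul_assoc]

theorem w_sg (h : DFive w x c y z) : w * sg c y z = sg c y z * w := by
  calc w * sg c y z = (w * c) * (y * z) * c := by simp only [sg, mul_assoc]
    _ = c * (w * y) * z * c := by rw [h.wc]; simp only [mul_assoc]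
    _ = c * y * (w * z) * c := by rw [h.wy]; simp only [mul_assoc]
    _ = c * y * z * (w * c) := by rw [h.wz]; simp only [mul_assoc]
    _ = sg c y z * w := by rw [h.wc]; simp only [sg, mul_assoc]

theorem w_tt (h : DFive w x c y z) : w * tt x c y z * w = tt x c y z * w * tt x c y z := by
  calc w * tt x c y z * w = (w * sg c y z) * x * (sg c y z * w) := by simp only [tt, mul_assoc]
    _ = sg c y z * (w * x * w) * sg c y z := by rw [← h.w_sg]; nth_rw 1 [h.w_sg]; simp only [mul_assoc]
    _ = sg c y z * x * (w * 1) * x * sg c y z := by rw [h.wx, mul_one]; simp only [mul_assoc]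
    _ = sg c y z * x * ((w * sg c y z) * sg c y z) * x * sg c y z := by
        rw [← h.sg_sq]; simp only [mul_assoc]
    _ = tt x c y z * w * tt x c y z := by rw [h.w_sg]; simp only [tt, mul_assoc]

theorem tt_sq (h : DFive w x c y z) : tt x c y z * tt x c y z = 1 := by
  calc tt x c y z * tt x c y z = sg c y z * x * (sg c y z * sg c y z) * x * sg c y z := by
        simp only [tt, mul_assoc]
    _ = sg c y z * (x * x) * sg c y z := by rw [h.sg_sq]; simp only [mul_assoc, one_mul]
    _ = 1 := by rw [h.xx, mul_one, h.sg_sq]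

/-- the square commutes with `c y` -/
theorem qi_sq_h (h : DFive w x c y z) :
    c * y * (qi x c y z * qi x c y z) = qi x c y z * qi x c y z * (c * y) := by
  set i := qi x c y z with hi
  set g := c * y with hg
  have hgi : g⁻¹ = y * c := by
    apply inv_eq_of_mul_eq_one_right
    rw [hg]
    calc c * y * (y * c) = c * (y * y) * c := by simp only [mul_assoc]
      _ = 1 := by rw [h.yy, mul_one, h.cc]
  have hB : g⁻¹ * i * g⁻¹ = i * g * i := by rw [hgi]; exact h.relB
  have h3 : g * g * g = 1 := by
    calc g * g * g = (c * y * c) * y * c * y := by rw [hg]; simp only [mul_assoc]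
      _ = (y * c) * (y * y) * c * y := by rw [← h.yc]; simp only [mul_assoc]
      _ = 1 := by rw [h.yy, mul_one, mul_assoc y, h.cc, mul_one, h.yy]
  have h4 : i * i = g⁻¹ * (i * i) * g := by
    calc i * i = i * g * (g⁻¹ * i * g⁻¹) * g := by group
      _ = i * g * (i * g * i) * g := by rw [hB]
      _ = (i * g * i) * g * (i * g) := by group
      _ = g⁻¹ * i * g⁻¹ * g * (i * g) := by rw [hB]
      _ = g⁻¹ * (i * i) * g := by group
  calc g * (i * i) = g * (g⁻¹ * (i * i) * g) := by rw [← h4]
    _ = i * i * g := by group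

theorem y_sq (h : DFive w x c y z) : y * (qi x c y z * qi x c y z) = qi x c y z * qi x c y z * y := by
  rw [h.qi_sq]
  calc y * (x * tt x c y z * (y * z)) = (y * x) * tt x c y z * (y * z) := by simp only [mul_assoc]
    _ = x * (y * tt x c y z) * (y * z) := by rw [← h.xy]; simp only [mul_assoc]
    _ = x * tt x c y z * y * (y * z) := by rw [h.y_tt]; simp only [mul_assoc]
    _ = x * tt x c y z * y * (z * y) := by rw [h.yz]
    _ = x * tt x c y z * (y * z) * y := by simp only [mul_assoc]

theorem z_sq (h : DFive w x c y z) : z * (qi x c y z * qi x c y z) = qi x c y z * qi x c y z * z := by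
  rw [h.qi_sq]
  calc z * (x * tt x c y z * (y * z)) = (z * x) * tt x c y z * (y * z) := by simp only [mul_assoc]
    _ = x * (z * tt x c y z) * (y * z) := by rw [← h.xz]; simp only [mul_assoc]
    _ = x * tt x c y z * (z * y) * z := by rw [h.z_tt]; simp only [mul_assoc]
    _ = x * tt x c y z * (y * z) * z := by rw [h.yz]

theorem c_sq (h : DFive w x c y z) : c * (qi x c y z * qi x c y z) = qi x c y z * qi x c y z * c := by
  have h1 := h.qi_sq_h
  have h2 := h.y_sq
  set m := qi x c y z * qi x c y z
  have h3 : c * m * y = m * c * y := by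
    rw [mul_assoc, ← h2, ← mul_assoc, h1, ← mul_assoc]
  exact mul_right_cancel h3

theorem x_sq (h : DFive w x c y z) : x * (qi x c y z * qi x c y z) = qi x c y z * qi x c y z * x := by
  have h1 : Commute (qi x c y z) (qi x c y z * qi x c y z) := (Commute.refl _).mul_right (Commute.refl _)
  have hc : Commute c (qi x c y z * qi x c y z) := h.c_sq
  have hy : Commute y (qi x c y z * qi x c y z) := h.y_sq
  have hz : Commute z (qi x c y z * qi x c y z) := h.z_sq
  have h2 : Commute (x * (c * y * c * z * c)) (qi x c y z * qi x c y z) := by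
    have : x * (c * y * c * z * c) = qi x c y z := by simp only [qi, mul_assoc]
    rw [this]
    exact h1
  have h3 : Commute (c * y * c * z * c) (qi x c y z * qi x c y z) :=
    (((hc.mul_left hy).mul_left hc).mul_left hz).mul_left hc
  have h4 := h2.mul_left h3.inv_left
  rwa [mul_inv_cancel_right] at h4

/-- if the square commutes with `w` then `y = z`. -/
theorem eq_of_comm (h : DFive w x c y z)
    (hw : w * (qi x c y z * qi x c y z) = qi x c y z * qi x c y z * w) : y = z := by
  have hwxt : w * (x * tt x c y z) = x * tt x c y z * w := by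
    have h1 : w * (x * tt x c y z) * (y * z) = x * tt x c y z * w * (y * z) := by
      calc w * (x * tt x c y z) * (y * z) = w * (x * tt x c y z * (y * z)) := by simp only [mul_assoc]
        _ = x * tt x c y z * (y * (z * w)) := by rw [← h.qi_sq, hw, h.qi_sq]; simp only [mul_assoc]
        _ = x * tt x c y z * ((y * w) * z) := by rw [← h.wz]; simp only [mul_assoc]
        _ = x * tt x c y z * w * (y * z) := by rw [← h.wy]; simp only [mul_assoc]
    exact mul_right_cancel h1
  have hxt : x = tt x c y z := by
    have hwt := h.w_tt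
    have htt := h.tt_sq
    set t := tt x c y z
    have h1 : w * x * t * w = x * t := by
      calc w * x * t * w = (w * (x * t)) * w := by simp only [mul_assoc]
        _ = x * t := by rw [hwxt, mul_assoc, h.ww, mul_one]
    have h2 : w * x * t * w = x * (w * x * t * w) * t := by
      calc w * x * t * w = (w * x * w) * (w * t * w) := by
            calc w * x * t * w = w * x * (w * w) * t * w := by rw [h.ww, mul_one]
              _ = (w * x * w) * (w * t * w) := by simp only [mul_assoc]
        _ = x * (w * x * t * w) * t := by rw [h.wx, hwt]; simp only [mul_assoc]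
    rw [h1] at h2
    have h3 : x * t = 1 := by
      calc x * t = x * (x * t) * t := h2
        _ = (x * x) * (t * t) := by simp only [mul_assoc]
        _ = 1 := by rw [h.xx, htt, mul_one]
    calc x = x * (t * t) := by rw [htt, mul_one]
      _ = t := by rw [← mul_assoc, h3, one_mul]
  have hsx : Commute (sg c y z) x := by
    have h1 := hxt
    rw [tt] at h1
    have h2 := h.sg_sq
    set s := sg c y z
    calc s * x = s * (s * x * s) := by rw [← h1]
      _ = (s * s) * x * s := by simp only [mul_assoc]
      _ = x * s := by rw [h2, one_mul]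
  -- `m = y z` commutes with `c`
  have hm : qi x c y z * qi x c y z = y * z := by
    rw [h.qi_sq, ← hxt, h.xx, one_mul]
  have hcyz := h.c_sq
  rw [hm] at hcyz
  have h1 : (y * c * y) * (z * c * z) = y * z := by
    calc (y * c * y) * (z * c * z) = c * y * (c * c) * z * c := by rw [h.yc, h.zc]; simp only [mul_assoc]
      _ = c * (y * z) * c := by rw [h.cc, mul_one, mul_assoc c]
      _ = y * z * (c * c) := by rw [hcyz, mul_assoc]
      _ = y * z := by rw [h.cc, mul_one]
  have h2 : c * (y * z) * c = 1 := by
    have h3 : y * (c * (y * z) * c) * z = y * z := by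
      calc y * (c * (y * z) * c) * z = y * c * y * (z * c * z) := by simp only [mul_assoc]
        _ = y * z := h1
    have h4 : y * (c * (y * z) * c) = y := mul_right_cancel h3
    exact mul_eq_left.1 h4
  have h3 : y * z = 1 := by
    rw [hcyz, mul_assoc, h.cc, mul_one] at h2
    exact h2
  calc y = y * (z * z) := by rw [h.zz, mul_one]
    _ = z := by rw [← mul_assoc, h3, one_mul]

/-- The lemma: `i`, `j`, `h` in a subgroup `N` containing `x c`, `y c`, `z c`, `w x`, modulo the centre. -/
theorem hasSL_quot (h : DFive w x c y z) (hyz : y ≠ z) {N : Subgroup O} (h1 : x * c ∈ N) (h2 : y * c ∈ N)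
    (h3 : z * c ∈ N) (h4 : w * x ∈ N) {Y : Type*} [Group Y] (π : N →* Y)
    (hπ : ∀ g, π g = 1 → g ∈ center N) : HasSL Y := by
  have hgi : (c * y)⁻¹ = y * c := by
    apply inv_eq_of_mul_eq_one_right
    calc c * y * (y * c) = c * (y * y) * c := by simp only [mul_assoc]
      _ = 1 := by rw [h.yy, mul_one, h.cc]
  have hg : c * y ∈ N := by
    have := N.inv_mem h2
    rwa [← hgi, inv_inv] at this
  have hi : qi x c y z ∈ N := by
    have : qi x c y z = x * c * (y * c) * (z * c) := by simp only [qi, mul_assoc]
    rw [this]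
    exact N.mul_mem (N.mul_mem h1 h2) h3
  set i := qi x c y z with hid
  set g := c * y with hgd
  have hB : g⁻¹ * i * g⁻¹ = i * g * i := by rw [hgi]; exact h.relB
  have hA : g * (i * i) = i * i * g := h.qi_sq_h
  have h3 : g * g * g = 1 := by
    calc g * g * g = (c * y * c) * y * c * y := by rw [hgd]; simp only [mul_assoc]
      _ = (y * c) * (y * y) * c * y := by rw [← h.yc]; simp only [mul_assoc]
      _ = 1 := by rw [h.yy, mul_one, mul_assoc y, h.cc, mul_one, h.yy]
  have hgg : g⁻¹ = g * g := inv_eq_of_mul_eq_one_left h3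
  let i' : N := ⟨i, hi⟩
  let g' : N := ⟨g, hg⟩
  have hA' : g' * (i' * i') = i' * i' * g' := Subtype.ext hA
  have hB' : g' * (g' * i' * g'⁻¹) * g'⁻¹ = i' * (g' * i' * g'⁻¹) := by
    apply Subtype.ext
    change g * (g * i * g⁻¹) * g⁻¹ = i * (g * i * g⁻¹)
    calc g * (g * i * g⁻¹) * g⁻¹ = (g * g) * i * g⁻¹ * g⁻¹ := by group
      _ = (i * g * i) * g⁻¹ := by rw [← hgg, hB]
      _ = i * (g * i * g⁻¹) := by group
  have hne : π i' * π i' ≠ 1 := by
    intro h5
    rw [← map_mul] at h5
    have h6 := mem_center_iff.1 (hπ _ h5) ⟨w * x, h4⟩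
    have h7 : w * x * (i * i) = i * i * (w * x) := congrArg Subtype.val h6
    apply hyz
    apply h.eq_of_comm
    have h8 : x * (i * i) = i * i * x := h.x_sq
    have h9 : w * (i * i) * x = i * i * w * x := by
      rw [mul_assoc, ← h8, ← mul_assoc, h7, ← mul_assoc]
    exact mul_right_cancel h9
  refine ⟨π i', π (g' * i' * g'⁻¹), π g', ⟨?_, ?_, hne⟩, ?_, ?_⟩
  · rw [← map_mul, ← map_mul]
    congr 1
    calc i' * i' = i' * i' * g' * g'⁻¹ := by group
      _ = g' * (i' * i') * g'⁻¹ := by rw [← hA']
      _ = g' * i' * g'⁻¹ * (g' * i' * g'⁻¹) := by group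
  · rw [← map_mul, ← map_mul, ← map_mul]
    congr 1
    calc i' * (g' * i' * g'⁻¹) * (i' * (g' * i' * g'⁻¹))
        = g' * (g' * i' * g'⁻¹) * g'⁻¹ * (g' * (g' * i' * g'⁻¹) * g'⁻¹) := by rw [hB']
      _ = g' * (g' * (i' * i')) * g'⁻¹ * g'⁻¹ := by group
      _ = g' * (i' * i' * g') * g'⁻¹ * g'⁻¹ := by rw [hA']
      _ = g' * (i' * i') * g'⁻¹ := by group
      _ = i' * i' * g' * g'⁻¹ := by rw [hA']
      _ = i' * i' := by group
  · rw [← map_mul, ← map_inv, ← map_mul]
  · rw [← map_mul, ← map_inv, ← map_mul, hB', map_mul]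

theorem hasSL_center (h : DFive w x c y z) (hyz : y ≠ z) : HasSL (O ⧸ center O) := by
  refine h.hasSL_quot hyz (N := ⊤) (mem_top _) (mem_top _) (mem_top _) (mem_top _)
    ((QuotientGroup.mk' (center O)).comp (⊤ : Subgroup O).subtype) ?_
  intro g hg
  have h1 : (g : O) ∈ center O := (QuotientGroup.eq_one_iff (g : O)).1 hg
  rw [mem_center_iff]
  intro k
  exact Subtype.ext (mem_center_iff.1 h1 k)

theorem hasSL (h : DFive w x c y z) (hyz : y ≠ z) : HasSL O := by
  refine h.hasSL_quot hyz (N := ⊤) (mem_top _) (mem_top _) (mem_top _) (mem_top _) (⊤ : Subgroup O).subtype ?_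
  intro g hg
  have h1 : g = 1 := Subtype.ext hg
  rw [h1]
  exact (center _).one_mem

/-- products of noncommuting generators are commutators -/
theorem mem_commutator_of_braid {a b : O} (ha : a * a = 1) (hb : b * b = 1) (hab : a * b * a = b * a * b) :
    a * b ∈ commutator O := by
  have h1 : a⁻¹ = a := inv_eq_of_mul_eq_one_left ha
  have h2 : b⁻¹ = b := inv_eq_of_mul_eq_one_left hb
  have h3 : a * b = ⁅b, a⁆ := by
    rw [commutatorElement_def, h1, h2]
    calc a * b = (b * b) * a * b := by rw [hb, one_mul]
      _ = b * (b * a * b) := by simp only [mul_assoc]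
      _ = b * (a * b * a) := by rw [hab]
      _ = b * a * b * a := by simp only [mul_assoc]
  rw [h3]
  exact commutator_mem_commutator (mem_top _) (mem_top _)

end DFive

end Cfsg.Agent.H466.RT
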