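import Cfsg.Agent.H466.RT.Basic

/-!
# Real elements modulo a normal subgroup of odd order

`REq.quotient`: if all noncentral real elements of `G` have centralizers with the same 2-part, then
the same holds in `G ⧸ N` for a normal subgroup `N` of odd order.
-/

set_option autoImplicit false

namespace Cfsg.Agent.H466.RT

open Subgroup

variable {G : Type*} [Group G] (N : Subgroup G) [N.Normal]

open Classical in
/-- The twisted conjugation. -/
noncomputable def tw (q : G ⧸ N) (s g : G) : G :=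
  if (s : G ⧸ N) * q * (s : G ⧸ N)⁻¹ = q then s * g * s⁻¹ else s * g⁻¹ * s⁻¹

variable {N}

theorem tw_mk {q : G ⧸ N} {s g : G} (hs : (s : G ⧸ N) ∈ cst q) (hg : (g : G ⧸ N) = q) :
    ((tw N q s g : G) : G ⧸ N) = q := by
  unfold tw
  split_ifs with h
  · rw [QuotientGroup.mk_mul, QuotientGroup.mk_mul, QuotientGroup.mk_inv, hg, h]
  · rcases hs with hs | hs
    · exact absurd hs h
    · rw [QuotientGroup.mk_mul, QuotientGroup.mk_mul, QuotientGroup.mk_inv, QuotientGroup.mk_inv, hg,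
        ← conj_inv, hs, inv_inv]

theorem tw_one {q : G ⧸ N} (g : G) : tw N q 1 g = g := by
  unfold tw
  rw [if_pos (by simp)]
  simp

theorem tw_mul {q : G ⧸ N} {s t : G} (hs : (s : G ⧸ N) ∈ cst q) (ht : (t : G ⧸ N) ∈ cst q) (g : G) :
    tw N q (s * t) g = tw N q s (tw N q t g) := by
  unfold tw
  by_cases h1 : (s : G ⧸ N) * q * (s : G ⧸ N)⁻¹ = q <;> by_cases h2 : (t : G ⧸ N) * q * (t : G ⧸ N)⁻¹ = q
  · have h3 : ((s * t : G) : G ⧸ N) * q * ((s * t : G) : G ⧸ N)⁻¹ = q := by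
      calc ((s * t : G) : G ⧸ N) * q * ((s * t : G) : G ⧸ N)⁻¹
          = (s : G ⧸ N) * ((t : G ⧸ N) * q * (t : G ⧸ N)⁻¹) * (s : G ⧸ N)⁻¹ := by
            rw [QuotientGroup.mk_mul]; group
        _ = q := by rw [h2, h1]
    rw [if_pos h1, if_pos h2, if_pos h3]
    group
  · have h2' := ht.resolve_left h2
    have h3 : ((s * t : G) : G ⧸ N) * q * ((s * t : G) : G ⧸ N)⁻¹ = q⁻¹ := by
      calc ((s * t : G) : G ⧸ N) * q * ((s * t : G) : G ⧸ N)⁻¹
          = (s : G ⧸ N) * ((t : G ⧸ N) * q * (t : G ⧸ N)⁻¹) * (s : G ⧸ N)⁻¹ := by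
            rw [QuotientGroup.mk_mul]; group
        _ = ((s : G ⧸ N) * q * (s : G ⧸ N)⁻¹)⁻¹ := by rw [h2']; group
        _ = q⁻¹ := by rw [h1]
    have h4 : ((s * t : G) : G ⧸ N) * q * ((s * t : G) : G ⧸ N)⁻¹ ≠ q := by
      rw [h3]
      intro h
      exact h2 (by rw [h2', h])
    rw [if_pos h1, if_neg h2, if_neg h4]
    group
  · have h1' := hs.resolve_left h1
    have h3 : ((s * t : G) : G ⧸ N) * q * ((s * t : G) : G ⧸ N)⁻¹ = q⁻¹ := by
      calc ((s * t : G) : G ⧸ N) * q * ((s * t : G) : G ⧸ N)⁻¹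
          = (s : G ⧸ N) * ((t : G ⧸ N) * q * (t : G ⧸ N)⁻¹) * (s : G ⧸ N)⁻¹ := by
            rw [QuotientGroup.mk_mul]; group
        _ = q⁻¹ := by rw [h2, h1']
    have h4 : ((s * t : G) : G ⧸ N) * q * ((s * t : G) : G ⧸ N)⁻¹ ≠ q := by
      rw [h3]
      intro h
      exact h1 (by rw [h1', h])
    rw [if_neg h1, if_pos h2, if_neg h4]
    group
  · have h1' := hs.resolve_left h1
    have h2' := ht.resolve_left h2
    have h3 : ((s * t : G) : G ⧸ N) * q * ((s * t : G) : G ⧸ N)⁻¹ = q := by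
      calc ((s * t : G) : G ⧸ N) * q * ((s * t : G) : G ⧸ N)⁻¹
          = (s : G ⧸ N) * ((t : G ⧸ N) * q * (t : G ⧸ N)⁻¹) * (s : G ⧸ N)⁻¹ := by
            rw [QuotientGroup.mk_mul]; group
        _ = ((s : G ⧸ N) * q * (s : G ⧸ N)⁻¹)⁻¹ := by rw [h2']; group
        _ = q := by rw [h1', inv_inv]
    rw [if_neg h1, if_neg h2, if_pos h3]
    group

/-- The fibre of `G → G ⧸ N` above `q`. -/
def Fib (N : Subgroup G) (q : G ⧸ N) : Type _ := {g : G // (g : G ⧸ N) = q}

theorem card_fib (q : G ⧸ N) : Nat.card (Fib N q) = Nat.card N := by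
  obtain ⟨x, rfl⟩ := QuotientGroup.mk_surjective q
  apply Nat.card_congr
  refine ⟨fun g => ⟨x⁻¹ * g.1, QuotientGroup.eq.1 g.2.symm⟩, fun n => ⟨x * n.1, ?_⟩, ?_, ?_⟩
  · rw [QuotientGroup.eq]
    have : (x * n.1)⁻¹ * x = (n.1)⁻¹ := by group
    rw [this]
    exact N.inv_mem n.2
  · intro g
    apply Subtype.ext
    simp
  · intro n
    apply Subtype.ext
    simp

/-- The twisted action of a subgroup of the preimage of `cst q` on the fibre above `q`. -/
noncomputable def twAction {q : G ⧸ N} (P : Subgroup G) (hP : ∀ s ∈ P, (s : G ⧸ N) ∈ cst q) :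
    MulAction P (Fib N q) where
  smul s g := ⟨tw N q s.1 g.1, tw_mk (hP s.1 s.2) g.2⟩
  one_smul g := Subtype.ext (tw_one g.1)
  mul_smul s t g := Subtype.ext (tw_mul (hP s.1 s.2) (hP t.1 t.2) g.1)

/-- A 2-subgroup of the preimage of `cst q` has a fixed point in the fibre. -/
theorem exists_fix [Finite G] (hN : Odd (Nat.card N)) {q : G ⧸ N} {P : Subgroup G} (hP2 : IsPGroup 2 P)
    (hP : ∀ s ∈ P, (s : G ⧸ N) ∈ cst q) :
    ∃ x : G, (x : G ⧸ N) = q ∧ ∀ s ∈ P, ((s : G ⧸ N) * q * (s : G ⧸ N)⁻¹ = q → s * x * s⁻¹ = x) ∧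
      ((s : G ⧸ N) * q * (s : G ⧸ N)⁻¹ ≠ q → s * x * s⁻¹ = x⁻¹) := by
  have : Fact (Nat.Prime 2) := ⟨Nat.prime_two⟩
  letI : MulAction P (Fib N q) := twAction P hP
  have hfin : Finite (Fib N q) := Nat.finite_of_card_ne_zero (by
    rw [card_fib]
    exact Nat.card_pos.ne')
  obtain ⟨x, hx⟩ := hP2.nonempty_fixed_point_of_prime_not_dvd_card (Fib N q) (by
    rw [card_fib]
    intro h
    rw [Nat.odd_iff] at hN
    omega)
  refine ⟨x.1, x.2, ?_⟩
  intro s hs
  have h1 : tw N q s x.1 = x.1 := congrArg Subtype.val (hx ⟨s, hs⟩)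
  unfold tw at h1
  constructor
  · intro h
    rwa [if_pos h] at h1
  · intro h
    rw [if_neg h] at h1
    have h2 : s * x.1 * s⁻¹ = (s * (x.1)⁻¹ * s⁻¹)⁻¹ := by group
    rw [h2, h1]

theorem nu_comap [Finite G] (hN : Odd (Nat.card N)) (H : Subgroup (G ⧸ N)) :
    nu (Nat.card (H.comap (QuotientGroup.mk' N))) = nu (Nat.card H) := by
  have h1 : Nat.card (H.comap (QuotientGroup.mk' N)) = Nat.card H * Nat.card N := by
    have h2 := card_mul_index (H.comap (QuotientGroup.mk' N))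
    have h3 := card_mul_index H
    have h4 := card_mul_index N
    have h5 : (H.comap (QuotientGroup.mk' N)).index = H.index :=
      index_comap_of_surjective H (QuotientGroup.mk'_surjective N)
    have h6 : N.index = Nat.card (G ⧸ N) := rfl
    rw [h5] at h2
    have hi : 0 < H.index := Nat.pos_of_ne_zero index_ne_zero_of_finite
    apply Nat.eq_of_mul_eq_mul_right hi
    rw [h2, ← h4, h6, ← h3]
    ring
  rw [h1, nu_mul (card_ne H) (card_ne N), nu_odd hN, add_zero]

theorem mk_cst {x : G} {g : G} (hg : g ∈ cst x) : (g : G ⧸ N) ∈ cst (x : G ⧸ N) := by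
  rcases hg with hg | hg
  · left
    rw [← QuotientGroup.mk_inv, ← QuotientGroup.mk_mul, ← QuotientGroup.mk_mul, hg]
  · right
    rw [← QuotientGroup.mk_inv, ← QuotientGroup.mk_mul, ← QuotientGroup.mk_mul, hg, QuotientGroup.mk_inv]

theorem cent_le_comap (x : G) : centralizer ({x} : Set G) ≤
    (centralizer ({(x : G ⧸ N)} : Set (G ⧸ N))).comap (QuotientGroup.mk' N) := by
  intro g hg
  rw [mem_cent] at hg
  rw [mem_comap, mem_cent]
  change (g : G ⧸ N) * (x : G ⧸ N) * (g : G ⧸ N)⁻¹ = (x : G ⧸ N)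
  rw [← QuotientGroup.mk_inv, ← QuotientGroup.mk_mul, ← QuotientGroup.mk_mul, hg]

/-- Real elements of `G ⧸ N` lift to real elements whose centralizers have the same 2-part. -/
theorem exists_real_lift [Finite G] (hN : Odd (Nat.card N)) {q : G ⧸ N} (hq : Real' q) :
    ∃ x : G, (x : G ⧸ N) = q ∧ Real' x ∧
      nu (Nat.card (centralizer ({x} : Set G))) = nu (Nat.card (centralizer ({q} : Set (G ⧸ N)))) := by
  have : Fact (Nat.Prime 2) := ⟨Nat.prime_two⟩
  by_cases hqq : q * q = 1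
  · -- involutions
    obtain ⟨P, hPle, -, hP2, hPc⟩ := exists_sylow ((centralizer ({q} : Set (G ⧸ N))).comap (QuotientGroup.mk' N))
      (A := ⊥) IsPGroup.of_bot bot_le
    rw [nu_comap hN] at hPc
    have hfix : ∀ s ∈ P, (s : G ⧸ N) * q * (s : G ⧸ N)⁻¹ = q := fun s hs => mem_cent.1 (hPle hs)
    obtain ⟨x, hx, hxs⟩ := exists_fix hN hP2 (q := q) (fun s hs => Or.inl (hfix s hs))
    have hx2 : x * x ∈ N := by
      rw [← QuotientGroup.eq_one_iff, QuotientGroup.mk_mul, hx, hqq]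
    have ho : Odd (orderOf (x * x)) := by
      have h1 : orderOf (x * x) ∣ Nat.card N := by
        have := orderOf_dvd_natCard (⟨x * x, hx2⟩ : N)
        rwa [orderOf_mk] at this
      exact Odd.of_dvd_nat hN h1
    obtain ⟨k, hk⟩ := ho
    have hy2 : x ^ (2 * k + 1) * x ^ (2 * k + 1) = 1 := by
      rw [← (Commute.refl x).mul_pow, ← hk, pow_orderOf_eq_one]
    have hyq : ((x ^ (2 * k + 1) : G) : G ⧸ N) = q := by
      rw [QuotientGroup.mk_pow, hx, pow_succ, pow_mul, pow_two, hqq, one_pow, one_mul]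
    refine ⟨x ^ (2 * k + 1), hyq, Real'.of_sq hy2, ?_⟩
    apply le_antisymm
    · have h1 := nu_card_le (cent_le_comap (N := N) (x ^ (2 * k + 1)))
      rwa [nu_comap hN, hyq] at h1
    · have h1 : P ≤ centralizer ({x ^ (2 * k + 1)} : Set G) := by
        intro s hs
        rw [mem_cent, ← conj_pow, (hxs s hs).1 (hfix s hs)]
      have h2 := nu_card_le h1
      rwa [hPc, nu_two_pow] at h2
  · obtain ⟨P, hPle, -, hP2, hPc⟩ := exists_sylow ((cst q).comap (QuotientGroup.mk' N)) (A := ⊥)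
      IsPGroup.of_bot bot_le
    rw [nu_comap hN] at hPc
    obtain ⟨x, hx, hxs⟩ := exists_fix hN hP2 (q := q) (fun s hs => hPle hs)
    have hcq := nu_cst hq hqq
    -- some element of `P` inverts `x`
    have hex : ∃ s ∈ P, (s : G ⧸ N) * q * (s : G ⧸ N)⁻¹ ≠ q := by
      by_contra hcon
      push Not at hcon
      have h1 : P ≤ (centralizer ({q} : Set (G ⧸ N))).comap (QuotientGroup.mk' N) := by
        intro s hs
        rw [mem_comap, mem_cent]
        exact hcon s hs
      have h2 := nu_card_le h1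
      rw [nu_comap hN, hPc, nu_two_pow] at h2
      omega
    obtain ⟨s, hs, hsq⟩ := hex
    have hxr : Real' x := ⟨s, (hxs s hs).2 hsq⟩
    have hxx : x * x ≠ 1 := by
      intro h
      apply hqq
      rw [← hx, ← QuotientGroup.mk_mul, h, QuotientGroup.mk_one]
    have hPx : P ≤ cst x := by
      intro s hs
      by_cases h : (s : G ⧸ N) * q * (s : G ⧸ N)⁻¹ = q
      · exact Or.inl ((hxs s hs).1 h)
      · exact Or.inr ((hxs s hs).2 h)
    refine ⟨x, hx, hxr, ?_⟩
    have h1 := nu_card_le hPx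
    rw [hPc, nu_two_pow] at h1
    have h2 := nu_cst hxr hxx
    have h3 := nu_card_le (cent_le_comap (N := N) x)
    rw [nu_comap hN, hx] at h3
    omega

/-- The condition passes to the quotient by a normal subgroup of odd order. -/
theorem REq.quotient [Finite G] {c : ℕ} (h : REq G c) (hN : Odd (Nat.card N)) : REq (G ⧸ N) c := by
  intro q hq hqc
  obtain ⟨x, hx, hxr, hc⟩ := exists_real_lift hN hq
  rw [← hc]
  apply h x hxr
  intro hxc
  apply hqc
  rw [mem_center_iff]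
  intro g
  obtain ⟨g, rfl⟩ := QuotientGroup.mk_surjective g
  rw [← hx, ← QuotientGroup.mk_mul, ← QuotientGroup.mk_mul, mem_center_iff.1 hxc g]

end Cfsg.Agent.H466.RT
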