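import Cfsg.Agent.H466.RT.Comp
import Cfsg.Agent.H466.RT.Red
import Cfsg.Agent.S3861

/-!
# Real class sizes with the same 2-part: the reduction to components

`main`: if there is no `Pair`, a finite group in which all noncentral real classes have the same 2-part has
2-length one.
-/

set_option autoImplicit false

namespace Cfsg.Agent.H466.RT

open Subgroup Cfsg

universe u

/-- the quotient by `O(G)` is 2-closed -/
theorem sylow_normal (hno : ∀ (M : Type u) [Group M] [Finite M] (K : Subgroup M) (c : ℕ), ¬ Pair M K c)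
    {G : Type u} [Group G] [Finite G] {c : ℕ} (h : REq G c) (hO : pPrimeCore 2 G = ⊥) (P : Sylow 2 G) :
    (P : Subgroup G).Normal := by
  rw [← Cfsg.Agent.S3861.result P]
  intro x hx1 hxo hx
  obtain ⟨K, hK, hz, hne⟩ := exists_component h hO (real_iff.2 hx) hxo hx1
  exact hno _ _ _ (pair_of_component h hK hz hne)

theorem main (hno : ∀ (M : Type u) [Group M] [Finite M] (K : Subgroup M) (c : ℕ), ¬ Pair M K c)
    {G : Type u} [Group G] [Finite G] (a : ℕ)
    (h : ∀ x : G, IsConj x x⁻¹ → x ∉ Subgroup.center G →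
      ((Subgroup.centralizer ({x} : Set G)).index).factorization 2 = a) :
    ∃ N K : Subgroup G, N.Normal ∧ K.Normal ∧ N ≤ K ∧ Odd (Nat.card N) ∧ Odd K.index ∧
      ∃ j : ℕ, N.relIndex K = 2 ^ j := by
  have : Fact (Nat.Prime 2) := ⟨Nat.prime_two⟩
  have hr : REq G (nu (Nat.card G) - a) := by
    intro x hx hxc
    have h1 := h x (real_iff.1 hx) hxc
    have h2 := card_mul_index (centralizer ({x} : Set G))
    have h3 := congrArg nu h2
    rw [nu_mul (card_ne _) index_ne_zero_of_finite] at h3
    have h4 : nu (centralizer ({x} : Set G)).index = a := h1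
    omega
  let N : Subgroup G := pPrimeCore 2 G
  have hNn : N.Normal := Lib.Cores.pPrimeCore_normal (G := G) 2
  have hNc : (Nat.card N).Coprime 2 := Lib.Cores.pPrimeCore_coprime (G := G) 2
  have hNo : Odd (Nat.card N) := Nat.coprime_two_right.1 hNc
  obtain ⟨P⟩ : Nonempty (Sylow 2 (G ⧸ N)) := inferInstance
  have hP : (P : Subgroup (G ⧸ N)).Normal := sylow_normal hno (hr.quotient hNo)
    (Lib.Cores.pPrimeCore_quotient_pPrimeCore 2) P
  refine ⟨N, (P : Subgroup (G ⧸ N)).comap (QuotientGroup.mk' N), hNn, hP.comap _, ?_, hNo, ?_, ?_⟩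
  · intro x hx
    rw [mem_comap]
    have : (QuotientGroup.mk' N) x = 1 := (QuotientGroup.eq_one_iff x).2 hx
    rw [this]
    exact one_mem _
  · rw [index_comap_of_surjective _ (QuotientGroup.mk'_surjective N)]
    rw [Nat.odd_iff]
    have := P.not_dvd_index
    omega
  · obtain ⟨j, hj⟩ := IsPGroup.iff_card.1 P.isPGroup'
    refine ⟨j, ?_⟩
    rw [← hj]
    have h2 := relIndex_comap (⊥ : Subgroup (G ⧸ N)) (QuotientGroup.mk' N)
      ((P : Subgroup (G ⧸ N)).comap (QuotientGroup.mk' N))
    have h3 : (⊥ : Subgroup (G ⧸ N)).comap (QuotientGroup.mk' N) = N := by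
      rw [MonoidHom.comap_bot]
      exact QuotientGroup.ker_mk' N
    rw [h3, map_comap_eq_self_of_surjective (QuotientGroup.mk'_surjective N)] at h2
    rw [h2]
    exact relIndex_bot_left _

end Cfsg.Agent.H466.RT
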