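import Cfsg.Agent.H466.RT.DFive
import Cfsg.Agent.R01.PSUSix
import Cfsg.Agent.S1629
import Cfsg.Agent.ClassicalGeometry.IsoTransfer
import Cfsg.Agent.LieClassical.SympTransvection

/-!
# `SL(2, 3)` in `U₆(2)`, `Sp₆(2)`, `Ω₈⁺(2)`
-/

set_option autoImplicit false

namespace Cfsg.Agent.H466.RT

open Subgroup Cfsg
open scoped Matrix

section Unitary

open Cfsg.Agent.R01.PSUSix Cfsg.Agent.SporadicStructure.UnitTwo Cfsg.Agent.LieClassical.HermBasic
open Cfsg.Agent.ClassicalGeometry.UnitAutBasic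

theorem exists_omega {F : Type*} [Field F] [Fintype F] (hF : Fintype.card F = 4) : ∃ ω : F, ω ^ 2 + ω + 1 = 0 := by
  classical
  obtain ⟨a, ha⟩ : ∃ a : F, a ∉ ({0, 1} : Finset F) := by
    by_contra hcon
    push Not at hcon
    have h1 : (Finset.univ : Finset F) ⊆ {0, 1} := fun x _ => hcon x
    have h2 := Finset.card_le_card h1
    rw [Finset.card_univ, hF] at h2
    have h3 := Finset.card_le_two (a := (0 : F)) (b := 1)
    omega
  simp only [Finset.mem_insert, Finset.mem_singleton, not_or] at ha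
  refine ⟨a, ?_⟩
  have h1 := FiniteField.pow_card a
  rw [hF] at h1
  have h2 : a * ((a - 1) * (a ^ 2 + a + 1)) = 0 := by linear_combination h1
  rcases mul_eq_zero.1 h2 with h | h
  · exact absurd h ha.1
  · rcases mul_eq_zero.1 h with h | h
    · exact absurd (by linear_combination h) ha.2
    · exact h

variable {F : Type*} [Field F] [Fintype F] {n : ℕ} (hF : Fintype.card F = 2 ^ 2)

include hF in
theorem tau_braid {v w : Fin n → F} (hv : hermForm n F 2 v v = 0) (hw : hermForm n F 2 w w = 0)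
    (h : hermForm n F 2 v w * hermForm n F 2 w v = 1) :
    tau hF v * tau hF w * tau hF v = tau hF w * tau hF v * tau hF w := by
  rw [tau_conj_tau hF hv hw, tau_conj_tau hF hw hv]
  set a := hermForm n F 2 v w with ha
  set b := hermForm n F 2 w v with hb
  have h2 := two_eq_zero hF
  have hb0 : b ≠ 0 := by
    rintro h0
    rw [h0, mul_zero] at h
    exact zero_ne_one h
  have h3 : w + b • v = b • (v + a • w) := by
    rw [smul_add, smul_smul, mul_comm b a, h, one_smul, add_comm]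
  have h4 : hermForm n F 2 (v + a • w) (v + a • w) = 0 := by
    rw [herm_add_left, herm_add_right (by rw [hF]), herm_add_right (by rw [hF]), herm_smul_left, herm_smul_left,
      herm_smul_right, herm_smul_right, hv, hw, ← ha, ← hb]
    have ha0 : a ≠ 0 := by
      rintro h0
      rw [h0, zero_mul] at h
      exact zero_ne_one h
    have ha3 : a ^ 3 = 1 := Cfsg.Agent.SporadicStructure.UnitTwo.pow_three hF ha0
    linear_combination ha3 + h + h2
  rw [h3, tau_smul hF h4 hb0]

theorem hasSL_u62 {F : Type*} [Field F] [Fintype F] (hF : Fintype.card F = 4) : HasSL (PSU 6 F 2) := by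
  have hF' : Fintype.card F = 2 ^ 2 := by rw [hF]; norm_num
  have h2 := two_eq_zero hF'
  obtain ⟨ω, hω⟩ := exists_omega hF
  have h3 : ω ^ 3 = 1 := by linear_combination (ω - 1) * hω
  let w : Fin 6 → F := ![1, 1, 0, 0, 0, 0]
  let x : Fin 6 → F := ![1, ω, 0, 0, 0, 0]
  let c : Fin 6 → F := ![1, 1, 1, 1, 0, 0]
  let y : Fin 6 → F := ![0, 0, 1, ω, 0, 0]
  let z : Fin 6 → F := ![0, 0, 1, ω, 1, 1]
  have hww : hermForm 6 F 2 w w = 0 := by simp [herm_def, Fin.sum_univ_six, w]; linear_combination h2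
  have hxx : hermForm 6 F 2 x x = 0 := by simp [herm_def, Fin.sum_univ_six, x]; linear_combination h2 + h3
  have hcc : hermForm 6 F 2 c c = 0 := by simp [herm_def, Fin.sum_univ_six, c]; linear_combination 2 * h2
  have hyy : hermForm 6 F 2 y y = 0 := by simp [herm_def, Fin.sum_univ_six, y]; linear_combination h2 + h3
  have hzz : hermForm 6 F 2 z z = 0 := by simp [herm_def, Fin.sum_univ_six, z]; linear_combination 2 * h2 + h3
  have hw0 : w ≠ 0 := fun h => by simpa [w] using congrFun h 0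
  have hx0 : x ≠ 0 := fun h => by simpa [x] using congrFun h 0
  have hc0 : c ≠ 0 := fun h => by simpa [c] using congrFun h 0
  have hy0 : y ≠ 0 := fun h => by simpa [y] using congrFun h 2
  have hD : DFive (tau hF' w) (tau hF' x) (tau hF' c) (tau hF' y) (tau hF' z) := by
    refine ⟨tau_mul_self hF' hww, tau_mul_self hF' hxx, tau_mul_self hF' hcc, tau_mul_self hF' hyy,
      tau_mul_self hF' hzz, tau_braid hF' hww hxx ?_, tau_braid hF' hxx hcc ?_, tau_braid hF' hyy hcc ?_,
      tau_braid hF' hzz hcc ?_, (tau_commute_iff hF' (by norm_num) hww hcc hw0).2 ?_,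
      (tau_commute_iff hF' (by norm_num) hww hyy hw0).2 ?_, (tau_commute_iff hF' (by norm_num) hww hzz hw0).2 ?_,
      (tau_commute_iff hF' (by norm_num) hxx hyy hx0).2 ?_, (tau_commute_iff hF' (by norm_num) hxx hzz hx0).2 ?_,
      (tau_commute_iff hF' (by norm_num) hyy hzz hy0).2 ?_⟩
    · simp [herm_def, Fin.sum_univ_six, w, x]; linear_combination hω + h3
    · simp [herm_def, Fin.sum_univ_six, c, x]; linear_combination hω + h3
    · simp [herm_def, Fin.sum_univ_six, c, y]; linear_combination hω + h3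
    · simp [herm_def, Fin.sum_univ_six, c, z]; linear_combination hω + h3
    · simp [herm_def, Fin.sum_univ_six, c, w]; linear_combination h2
    · simp [herm_def, Fin.sum_univ_six, w, y]
    · simp [herm_def, Fin.sum_univ_six, w, z]
    · simp [herm_def, Fin.sum_univ_six, x, y]
    · simp [herm_def, Fin.sum_univ_six, x, z]
    · simp [herm_def, Fin.sum_univ_six, y, z]; linear_combination h2 + h3
  apply hD.hasSL
  intro he
  obtain ⟨k, -, hk⟩ := (tau_eq_iff hF' (by norm_num) hyy hzz hy0).1 he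
  have h4 := congrFun hk 4
  simp [y, z] at h4

end Unitary

section Symplectic

open Cfsg.Agent.LieClassical.SympTransvection Matrix

variable {F : Type*} [Field F] {l : Type*} [Fintype l] [DecidableEq l]

theorem tvS_ext {A B : symplecticGroup l F} (h : ∀ x, A.1 *ᵥ x = B.1 *ᵥ x) : A = B := by
  apply Subtype.ext
  apply Matrix.toLin'.injective
  apply LinearMap.ext
  intro x
  rw [Matrix.toLin'_apply, Matrix.toLin'_apply]
  exact h x

theorem tvS_sq (h2 : (2 : F) = 0) (u : l ⊕ l → F) : tvS 1 u * tvS 1 u = (1 : symplecticGroup l F) := by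
  apply tvS_ext
  intro x
  change (tv 1 u * tv 1 u) *ᵥ x = (1 : Matrix (l ⊕ l) (l ⊕ l) F) *ᵥ x
  rw [← Matrix.mulVec_mulVec, tv_mulVec, tv_mulVec, Matrix.one_mulVec]
  funext i
  simp only [om_add_left, om_smul_left, om_self, one_mul, Pi.add_apply, Pi.smul_apply, smul_eq_mul, mul_zero,
    add_zero]
  linear_combination (om x u * u i) * h2

theorem tvS_comm {u v : l ⊕ l → F} (h : om u v = 0) : (tvS 1 u * tvS 1 v : symplecticGroup l F) = tvS 1 v * tvS 1 u := by
  have h' : om v u = 0 := by rw [om_swap, h, neg_zero]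
  apply tvS_ext
  intro x
  change (tv 1 u * tv 1 v) *ᵥ x = (tv 1 v * tv 1 u) *ᵥ x
  rw [← Matrix.mulVec_mulVec, ← Matrix.mulVec_mulVec, tv_mulVec, tv_mulVec, tv_mulVec, tv_mulVec]
  funext i
  simp only [om_add_left, om_smul_left, h, h', one_mul, Pi.add_apply, Pi.smul_apply, smul_eq_mul, mul_zero,
    add_zero]
  ring

theorem tvS_braid (h2 : (2 : F) = 0) {u v : l ⊕ l → F} (h : om u v = 1) :
    (tvS 1 u * tvS 1 v * tvS 1 u : symplecticGroup l F) = tvS 1 v * tvS 1 u * tvS 1 v := by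
  have h' : om v u = 1 := by rw [om_swap, h]; linear_combination -h2
  apply tvS_ext
  intro x
  change (tv 1 u * tv 1 v * tv 1 u) *ᵥ x = (tv 1 v * tv 1 u * tv 1 v) *ᵥ x
  simp only [← Matrix.mulVec_mulVec, tv_mulVec]
  funext i
  simp only [om_add_left, om_smul_left, om_self, h, h', one_mul, Pi.add_apply, Pi.smul_apply, smul_eq_mul, mul_zero,
    add_zero, mul_one]
  linear_combination (om x u * u i - om x v * v i) * h2

theorem hasSL_sp62 {F : Type*} [Field F] [Fintype F] (hF : Fintype.card F = 2) : HasSL (PSp 3 F) := by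
  have h2 : (2 : F) = 0 := by
    have := FiniteField.cast_card_eq_zero F
    rw [hF] at this
    exact_mod_cast this
  let w : Fin 3 ⊕ Fin 3 → F := Sum.elim ![1, 0, 0] ![0, 0, 0]
  let x : Fin 3 ⊕ Fin 3 → F := Sum.elim ![0, 0, 0] ![1, 0, 0]
  let c : Fin 3 ⊕ Fin 3 → F := Sum.elim ![1, 1, 0] ![0, 0, 0]
  let y : Fin 3 ⊕ Fin 3 → F := Sum.elim ![0, 0, 0] ![0, 1, 0]
  let z : Fin 3 ⊕ Fin 3 → F := Sum.elim ![0, 0, 1] ![0, 1, 0]
  have hD : DFive (tvS 1 w : symplecticGroup (Fin 3) F) (tvS 1 x) (tvS 1 c) (tvS 1 y) (tvS 1 z) := by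
    refine ⟨tvS_sq h2 _, tvS_sq h2 _, tvS_sq h2 _, tvS_sq h2 _, tvS_sq h2 _, tvS_braid h2 ?_, tvS_braid h2 ?_,
      tvS_braid h2 ?_, tvS_braid h2 ?_, tvS_comm ?_, tvS_comm ?_, tvS_comm ?_, tvS_comm ?_, tvS_comm ?_,
      tvS_comm ?_⟩
    · simp [om_eq_sum, Fin.sum_univ_three, w, x]; linear_combination -h2
    · simp [om_eq_sum, Fin.sum_univ_three, c, x]
    · simp [om_eq_sum, Fin.sum_univ_three, c, y]
    · simp [om_eq_sum, Fin.sum_univ_three, c, z]
    · simp [om_eq_sum, Fin.sum_univ_three, c, w]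
    · simp [om_eq_sum, Fin.sum_univ_three, w, y]
    · simp [om_eq_sum, Fin.sum_univ_three, w, z]
    · simp [om_eq_sum, Fin.sum_univ_three, x, y]
    · simp [om_eq_sum, Fin.sum_univ_three, x, z]
    · simp [om_eq_sum, Fin.sum_univ_three, y, z]
  apply hD.hasSL_center
  intro he
  let v : Fin 3 ⊕ Fin 3 → F := Sum.elim ![0, 0, 0] ![0, 0, 1]
  have h3 : tv 1 y *ᵥ v = tv 1 z *ᵥ v := congrArg (fun A : symplecticGroup (Fin 3) F => A.1 *ᵥ v) he
  rw [tv_mulVec, tv_mulVec] at h3
  have h4 := congrFun h3 (.inl 2)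
  simp [om_eq_sum, Fin.sum_univ_three, y, z, v] at h4

end Symplectic

section Orthogonal

open Cfsg.Agent.SporadicStructure.OrthTransTwo Cfsg.Agent.S1629

variable {ι : Type} [Fintype ι] [DecidableEq ι] {Q : (ι → ZMod 2) → ZMod 2}
  {B : (ι → ZMod 2) → (ι → ZMod 2) → ZMod 2} (h : IsNdForm Q B)

theorem otau_sq {u : ι → ZMod 2} (hu : Q u = 1) : tau h u hu * tau h u hu = 1 := by
  have h2 : (2 : ZMod 2) = 0 := rfl
  apply act_ext
  intro x
  rw [act_mul, act_tau, act_tau, act_one]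
  funext i
  simp only [B_add_right h, B_smul_right h, B_self h, Pi.add_apply, Pi.smul_apply, smul_eq_mul, mul_zero, add_zero]
  linear_combination (B u x * u i) * h2

theorem otau_comm {u v : ι → ZMod 2} (hu : Q u = 1) (hv : Q v = 1) (huv : B u v = 0) :
    tau h u hu * tau h v hv = tau h v hv * tau h u hu := by
  have huv' : B v u = 0 := by rw [B_symm h, huv]
  apply act_ext
  intro x
  rw [act_mul, act_mul, act_tau, act_tau, act_tau, act_tau]
  funext i
  simp only [B_add_right h, B_smul_right h, huv, huv', Pi.add_apply, Pi.smul_apply, smul_eq_mul, mul_zero, add_zero]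
  ring

theorem otau_braid {u v : ι → ZMod 2} (hu : Q u = 1) (hv : Q v = 1) (huv : B u v = 1) :
    tau h u hu * tau h v hv * tau h u hu = tau h v hv * tau h u hu * tau h v hv := by
  have h2 : (2 : ZMod 2) = 0 := rfl
  have huv' : B v u = 1 := by rw [B_symm h, huv]
  apply act_ext
  intro x
  simp only [act_mul, act_tau]
  funext i
  simp only [B_add_right h, B_smul_right h, B_self h, huv, huv', Pi.add_apply, Pi.smul_apply, smul_eq_mul, mul_zero,
    add_zero, mul_one]
  linear_combination (B u x * u i - B v x * v i) * h2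

theorem hasSL_o8 {F : Type} [Field F] [Fintype F] (hF : Fintype.card F = 2) :
    HasSL (POmega F (quadFormPlus 4 F)) := by
  classical
  have hnd := isNdForm_plus 4
  have hch : CharP F 2 := by
    have h1 := FiniteField.cast_card_eq_zero F
    rw [hF] at h1
    exact CharTwo.of_one_ne_zero_of_two_eq_zero one_ne_zero (by exact_mod_cast h1)
  let φ : F ≃+* ZMod 2 := (ZMod.ringEquivOfPrime F Nat.prime_two hF).symm
  have hφ : ∀ v, φ (quadFormPlus 4 F v) = quadFormPlus 4 (ZMod 2) (φ ∘ v) := by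
    intro v
    simp [quadFormPlus, map_sum, map_mul]
  let e := Cfsg.Agent.ClassicalGeometry.IsoTransfer.isometryGroupCongr φ (quadFormPlus 4 F)
    (quadFormPlus 4 (ZMod 2)) hφ
  let w : Fin 4 ⊕ Fin 4 → ZMod 2 := Sum.elim ![0, 0, 0, 1] ![0, 0, 0, 1]
  let x : Fin 4 ⊕ Fin 4 → ZMod 2 := Sum.elim ![0, 0, 1, 0] ![0, 0, 1, 1]
  let c : Fin 4 ⊕ Fin 4 → ZMod 2 := Sum.elim ![0, 0, 0, 1] ![0, 1, 0, 1]
  let y : Fin 4 ⊕ Fin 4 → ZMod 2 := Sum.elim ![0, 1, 0, 0] ![0, 1, 0, 0]
  let z : Fin 4 ⊕ Fin 4 → ZMod 2 := Sum.elim ![0, 1, 0, 0] ![1, 1, 0, 0]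
  have hw : quadFormPlus 4 (ZMod 2) w = 1 := by decide
  have hx : quadFormPlus 4 (ZMod 2) x = 1 := by decide
  have hc : quadFormPlus 4 (ZMod 2) c = 1 := by decide
  have hy : quadFormPlus 4 (ZMod 2) y = 1 := by decide
  have hz : quadFormPlus 4 (ZMod 2) z = 1 := by decide
  have hD : DFive (tau hnd w hw) (tau hnd x hx) (tau hnd c hc) (tau hnd y hy) (tau hnd z hz) := by
    refine ⟨otau_sq _ _, otau_sq _ _, otau_sq _ _, otau_sq _ _, otau_sq _ _, otau_braid _ _ _ ?_,
      otau_braid _ _ _ ?_, otau_braid _ _ _ ?_, otau_braid _ _ _ ?_, otau_comm _ _ _ ?_, otau_comm _ _ _ ?_,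
      otau_comm _ _ _ ?_, otau_comm _ _ _ ?_, otau_comm _ _ _ ?_, otau_comm _ _ _ ?_⟩ <;> decide
  have hne : tau hnd y hy ≠ tau hnd z hz := by
    intro he
    have h1 := congrArg (fun g => act g (Sum.elim ![1, 0, 0, 0] ![0, 0, 0, 0])) he
    simp only [act_tau] at h1
    have h2 := congrFun h1 (.inl 1)
    revert h2
    decide
  have hE := hD.map e.symm.toMonoidHom
  have hbr : ∀ {a b : isometryGroup F (quadFormPlus 4 F)}, a * a = 1 → b * b = 1 → a * b * a = b * a * b →
      a * b ∈ Omega F (quadFormPlus 4 F) := fun ha hb hab => DFive.mem_commutator_of_braid ha hb hab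
  refine hE.hasSL_quot (fun h => hne (e.symm.injective h)) (N := Omega F (quadFormPlus 4 F))
    (hbr hE.xx hE.cc hE.xc) (hbr hE.yy hE.cc hE.yc) (hbr hE.zz hE.cc hE.zc) (hbr hE.ww hE.xx hE.wx)
    (QuotientGroup.mk' (center (Omega F (quadFormPlus 4 F)))) ?_
  intro g hg
  exact (QuotientGroup.eq_one_iff g).1 hg

end Orthogonal

end Cfsg.Agent.H466.RT
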