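import Cfsg.Agent.H466.RT.PslTwo
import Cfsg.Agent.H466.RT.ASeven
import Cfsg.Agent.H466.RT.LThree
import Cfsg.Agent.H466.RT.SzEight
import Cfsg.Agent.H466.RT.AltEight
import Cfsg.Agent.H466.RT.OddLie
import Cfsg.Agent.H466.RT.QClass
import Cfsg.Agent.H466.RT.QFi
import Cfsg.Agent.H466.RT.QLie
import Cfsg.Agent.H466.RT.QMat
import Cfsg.Agent.H466.RT.QSpor
import Cfsg.Agent.H466.RT.QSuz
import Cfsg.Agent.OddHalf.Known
import Cfsg.Agent.OddHalf.D4.Cut
import Cfsg.Agent.OddHalf.LieOddFam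
import Cfsg.Agent.OddHalf.U2.MulL2
import Cfsg.Agent.S0253
import Cfsg.Agent.S0254

/-!
# There is no pair
-/

set_option autoImplicit false

namespace Cfsg.Agent.H466.RT

open Subgroup Cfsg Cfsg.Agent.OddHalf.Iface Cfsg.Agent.OddHalf.D9.Cut Cfsg.Agent.OddHalf.D4.Cut
  Cfsg.Agent.OddHalf.LieOddFam

universe u

theorem alt5_psl : ∃ (F : Type) (_ : Field F) (_ : Fintype F), Odd (Fintype.card F) ∧ 5 ≤ Fintype.card F ∧
    Nonempty (alternatingGroup (Fin 5) ≃* Matrix.ProjectiveSpecialLinearGroup (Fin 2) F) := by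
  have : Fact (Nat.Prime 5) := ⟨by norm_num⟩
  have hc : Fintype.card (ZMod 5) = 5 := ZMod.card 5
  obtain ⟨e⟩ := Cfsg.Agent.S0253.result (F := ZMod 5) hc
  exact ⟨ZMod 5, inferInstance, inferInstance, by rw [hc]; decide, by rw [hc], ⟨e.symm⟩⟩

theorem alt6_psl : ∃ (F : Type) (_ : Field F) (_ : Fintype F), Odd (Fintype.card F) ∧ 5 ≤ Fintype.card F ∧
    Nonempty (alternatingGroup (Fin 6) ≃* Matrix.ProjectiveSpecialLinearGroup (Fin 2) F) := by
  have : Fact (Nat.Prime 3) := ⟨Nat.prime_three⟩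
  have hfin : Finite (GaloisField 3 2) := inferInstance
  let _ : Fintype (GaloisField 3 2) := Fintype.ofFinite _
  have hc : Fintype.card (GaloisField 3 2) = 9 := by
    rw [← Nat.card_eq_fintype_card, GaloisField.card 3 2 (by norm_num)]
    norm_num
  obtain ⟨e⟩ := Cfsg.Agent.S0254.result (F := GaloisField 3 2) hc
  exact ⟨GaloisField 3 2, inferInstance, inferInstance, by rw [hc]; decide, by rw [hc]; norm_num, ⟨e.symm⟩⟩

theorem quot_noncomm {K : Type u} [Group K] (hq : IsQuasisimple K) : ∃ a b : K ⧸ center K, a * b ≠ b * a := by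
  by_contra hcon
  push Not at hcon
  have hn := hq.2
  have h1 : commutator K ≤ center K := by
    rw [commutator_def, commutator_le]
    intro x _ y _
    rw [← QuotientGroup.eq_one_iff, commutatorElement_def]
    have h2 := hcon (x : K ⧸ center K) y
    rw [QuotientGroup.mk_mul, QuotientGroup.mk_mul, QuotientGroup.mk_mul, QuotientGroup.mk_inv,
      QuotientGroup.mk_inv, h2]
    group
  rw [hq.1.commutator_eq_top] at h1
  obtain ⟨a, ha⟩ := exists_ne (1 : K ⧸ center K)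
  obtain ⟨g, rfl⟩ := QuotientGroup.mk_surjective a
  exact ha ((QuotientGroup.eq_one_iff g).2 (h1 (mem_top g)))

theorem noncomm_congr {X Y : Type*} [Group X] [Group Y] (e : X ≃* Y) (h : ∃ a b : X, a * b ≠ b * a) :
    ∃ a b : Y, a * b ≠ b * a := by
  obtain ⟨a, b, hab⟩ := h
  refine ⟨e a, e b, ?_⟩
  rw [← map_mul, ← map_mul]
  exact fun h => hab (e.injective h)

theorem HasSL.of_equiv {X Y : Type*} [Group X] [Group Y] (e : X ≃* Y) (h : HasSL Y) : HasSL X :=
  h.map (f := e.symm.toMonoidHom) e.symm.injective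

theorem HasQ.of_equiv {X Y : Type*} [Group X] [Group Y] (e : X ≃* Y) (h : HasQ Y) : HasQ X :=
  h.map (f := e.symm.toMonoidHom) e.symm.injective

theorem hasQ_exc2 {X : Type u} [Group X] (hnc : ∃ a b : X, a * b ≠ b * a) (h : Exc2 X) : HasQ X := by
  rcases h with h | h | h | h | h | h | h | h | h | h | h | h | h | h
  · obtain ⟨F, _, _, hF, ⟨e⟩⟩ := h
    exact ((hasSL_u62 hF).of_equiv e).hasQ
  · obtain ⟨F, _, _, hF, ⟨e⟩⟩ := h
    exact ((hasSL_sp62 hF).of_equiv e).hasQ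
  · obtain ⟨F, _, _, hF, ⟨e⟩⟩ := h
    exact ((hasSL_o8 hF).of_equiv e).hasQ
  · obtain ⟨F, _, _, hF, ⟨e⟩⟩ := h
    exact (hasQ_G24 hF).of_equiv e
  · obtain ⟨F, _, _, hF, ⟨e⟩⟩ := h
    exact (hasQ_F42 hF).of_equiv e
  · obtain ⟨F, _, _, hF, ⟨e⟩⟩ := h
    exact ((hasSL_twoE6 F hF (noncomm_congr e hnc)).of_equiv e).hasQ
  · obtain ⟨e⟩ := h
    exact hasQ_M12.of_equiv e
  · obtain ⟨e⟩ := h
    exact hasQ_J2.of_equiv e
  · obtain ⟨e⟩ := h
    exact hasQ_HS.of_equiv e
  · obtain ⟨e⟩ := h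
    exact hasQ_suz.of_equiv e
  · obtain ⟨e⟩ := h
    exact hasQ_ru.of_equiv e
  · obtain ⟨e⟩ := h
    exact ((hasSL_fi22 (noncomm_congr e hnc)).of_equiv e).hasQ
  · obtain ⟨e⟩ := h
    exact (hasSL_Co1.of_equiv e).hasQ
  · obtain ⟨e⟩ := h
    exact ((hasSL_B (noncomm_congr e hnc)).of_equiv e).hasQ

section

variable {M : Type u} [Group M] [Finite M] {K : Subgroup M} {c : ℕ}

theorem Pair.not_hasSL (h : Pair M K c) (hs : HasSL (K ⧸ center K)) : False := h.not_bad hs.bad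

theorem Pair.not_hasQ (h : Pair M K c) (hc : IsCyclic (center K)) (hs : HasQ (K ⧸ center K)) : False :=
  h.not_bad (hs.bad hc)

theorem Pair.not_l34 (h : Pair M K c) (hX : XL34 (K ⧸ center K)) (hz : Nat.card (center K) ≤ 16) : False := by
  obtain ⟨F, _, _, hF, ⟨e⟩⟩ := hX
  apply h.not_easy ((easy_psl34 hF).of_equiv e.symm)
  rw [Nat.card_congr e.toEquiv, nu_psl34 hF]
  omega

theorem Pair.not_sz (h : Pair M K c) (hX : Lie.IsoSuzuki (K ⧸ center K)) (hz : Nat.card (center K) ≤ 16) : False := by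
  apply h.not_easy (easy_sz hX)
  have h1 := nu_sz hX
  have h2 : 2 ^ 6 ≤ 2 ^ nu (Nat.card (K ⧸ center K)) := Nat.pow_le_pow_right (by norm_num) h1
  omega

theorem isoSuzuki_of_sz8 {X : Type u} [Group X] (h : XSz8 X) : Lie.IsoSuzuki X := by
  obtain ⟨F, i1, i2, hF, e⟩ := h
  exact ⟨F, i1, i2, 1, le_rfl, by rw [hF]; norm_num, e⟩

/-- **There is no pair.** -/
theorem Pair.false_of_mult (h : Pair M K c) (hM : Mult.{u}) (hM4 : MultD4.{u})
    (hK : IsKnownSimple' (K ⧸ center K)) : False := by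
  have hs : IsSimpleGroup (K ⧸ center K) := h.qs.2
  have hnc := quot_noncomm h.qs
  have hna : ¬ IsMulCommutative (K ⧸ center K) := by
    intro h1
    obtain ⟨a, b, hab⟩ := hnc
    exact hab (h1.is_comm.comm a b)
  have halt : ¬ IsAlternating (K ⧸ center K) := by
    rintro ⟨n, hn, ⟨e⟩⟩
    by_cases h8 : 8 ≤ n
    · exact h.not_hasSL ((hasSL_alt h8).of_equiv e)
    · obtain rfl | rfl | rfl : n = 5 ∨ n = 6 ∨ n = 7 := by omega
      · obtain ⟨F, _, _, h1, h2, ⟨f⟩⟩ := alt5_psl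
        exact h.not_psl h1 h2 (e.trans f)
      · obtain ⟨F, _, _, h1, h2, ⟨f⟩⟩ := alt6_psl
        exact h.not_psl h1 h2 (e.trans f)
      · exact h.not_a7 e
  have hodd : ¬ LieOdd (K ⧸ center K) := by
    intro hl
    rcases Cfsg.Agent.OddHalf.LieOddFam.lieOdd_cases hl halt with h1 | h1 | h1 | ⟨q, hq, h1⟩
    · obtain ⟨F, _, _, hF, ⟨e⟩⟩ := h1
      exact h.not_psl (by rw [hF]; decide) (by rw [hF]; norm_num) e
    · obtain ⟨F, _, _, ho, hF, ⟨e⟩⟩ := h1
      exact h.not_psl ho (by omega) e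
    · exact h.zne (Cfsg.Agent.OddHalf.U2.MulL2.center_ree h.qs.1.commutator_eq_top hs h.z2 h1)
    · exact h.not_hasSL (hasSL_rk hq h1)
  have hfin : Finite K := inferInstance
  rcases Cfsg.Agent.OddHalf.Known.classify hna hK with h1 | h1 | h1 | h1
  · exact halt h1
  · exact hodd h1
  · have hl : LieTwo (K ⧸ center K) := ⟨h1, halt, hodd⟩
    by_cases hc : IsCyclic (center K)
    · have hQ : QsCyc K := ⟨hfin, h.qs, h.z2, hc⟩
      by_cases e2 : Exc2 (K ⧸ center K)
      · exact h.not_hasQ hc (hasQ_exc2 hnc e2)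
      · by_cases e4 : Exc4 (K ⧸ center K)
        · rcases e4 with e4' | e4'
          · exact h.not_l34 e4' ((Nat.le_of_dvd (by norm_num) (hM.four _ hQ (Or.inl e4'))).trans (by norm_num))
          · obtain ⟨e⟩ := e4'
            exact h.not_hasQ hc (hasQ_M22.of_equiv e)
        · by_cases es : XSz (K ⧸ center K)
          · exact h.not_sz es (by rw [(hM4.sz _ hQ es h.zne).2]; norm_num)
          · exact h.zne (hM.lie _ hQ hl e2 e4 es)
    · have hQ : QsNon K := ⟨hfin, h.qs, h.z2, hc⟩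
      rcases hM4.lie _ hQ hl with hv | h34
      · have hk := hM4.four _ hQ hv
        have h4 : Nat.card (center K) = 4 := hk.card_four
        rcases hv with hv | hv | hv | hv
        · obtain ⟨F, _, _, hF, ⟨e⟩⟩ := hv
          exact h.not_hasSL ((hasSL_u62 hF).of_equiv e)
        · obtain ⟨F, _, _, hF, ⟨e⟩⟩ := hv
          exact h.not_hasSL ((hasSL_o8 hF).of_equiv e)
        · obtain ⟨F, _, _, hF, ⟨e⟩⟩ := hv
          exact h.not_hasSL ((hasSL_twoE6 F hF (noncomm_congr e hnc)).of_equiv e)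
        · exact h.not_sz (isoSuzuki_of_sz8 hv) (by rw [h4]; norm_num)
      · exact h.not_l34 h34 (by
          rcases (hM4.l34 _ hQ h34).1 with h5 | h5 | h5 <;> rw [h5] <;> norm_num)
  · by_cases hc : IsCyclic (center K)
    · have hQ : QsCyc K := ⟨hfin, h.qs, h.z2, hc⟩
      by_cases e2 : Exc2 (K ⧸ center K)
      · exact h.not_hasQ hc (hasQ_exc2 hnc e2)
      · by_cases e4 : Exc4 (K ⧸ center K)
        · rcases e4 with e4' | e4'
          · exact h.not_l34 e4' ((Nat.le_of_dvd (by norm_num) (hM.four _ hQ (Or.inl e4'))).trans (by norm_num))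
          · obtain ⟨e⟩ := e4'
            exact h.not_hasQ hc (hasQ_M22.of_equiv e)
        · exact h.zne (hM.spor _ hQ h1 e2 e4)
    · exact hM4.spor _ ⟨hfin, h.qs, h.z2, hc⟩ h1

end

end Cfsg.Agent.H466.RT
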