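import Cfsg.Agent.H466.RT.Basic
import Cfsg.Agent.HexOut.Tools

/-!
# Real elements of odd order centralize the normal 2-subgroups

when all noncentral real elements have centralizers with the same 2-part.
-/

set_option autoImplicit false

namespace Cfsg.Agent.H466.RT

open Subgroup

variable {G : Type*} [Group G]

/-- A nontrivial normal 2-subgroup `B` has a proper subgroup `F`, normal in `G`, with `B / F` elementary
abelian. -/
theorem exists_sq_sub [Finite G] (B : Subgroup G) [hBn : B.Normal] (hB : IsPGroup 2 B) (hne : B ≠ ⊥) :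
    ∃ F : Subgroup G, F.Normal ∧ F < B ∧ ∀ b ∈ B, b * b ∈ F := by
  have : Fact (Nat.Prime 2) := ⟨Nat.prime_two⟩
  let F : Subgroup G := closure {y | ∃ b ∈ B, b * b = y}
  have hFB : F ≤ B := by
    rw [closure_le]
    rintro _ ⟨b, hb, rfl⟩
    exact B.mul_mem hb hb
  have hFn : F.Normal := by
    constructor
    intro n hn g
    have h1 : ∀ y ∈ F, g * y * g⁻¹ ∈ F := by
      intro y hy
      induction hy using closure_induction with
      | mem y hy =>
        obtain ⟨b, hb, rfl⟩ := hy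
        apply Subgroup.subset_closure
        exact ⟨g * b * g⁻¹, hBn.conj_mem b hb g, by group⟩
      | one => simp
      | mul a b _ _ ha hb =>
        have : g * (a * b) * g⁻¹ = (g * a * g⁻¹) * (g * b * g⁻¹) := by group
        rw [this]
        exact F.mul_mem ha hb
      | inv a _ ha =>
        have : g * a⁻¹ * g⁻¹ = (g * a * g⁻¹)⁻¹ := by group
        rw [this]
        exact F.inv_mem ha
    exact h1 n hn
  refine ⟨F, hFn, lt_of_le_of_ne hFB ?_, fun b hb => Subgroup.subset_closure ⟨b, hb, rfl⟩⟩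
  intro hEq
  obtain ⟨n, hn⟩ := IsPGroup.iff_card.1 hB
  have hn0 : n ≠ 0 := by
    rintro rfl
    apply hne
    rw [pow_zero] at hn
    exact card_eq_one.1 hn
  obtain ⟨m, rfl⟩ := Nat.exists_eq_succ_of_ne_zero hn0
  obtain ⟨H, hH⟩ := Sylow.exists_subgroup_card_pow_prime (G := B) 2 (n := m) (by
    rw [hn]
    exact pow_dvd_pow 2 (Nat.le_succ m))
  have hi : H.index = 2 := by
    have h1 := card_mul_index H
    rw [hH, hn, pow_succ] at h1
    exact Nat.eq_of_mul_eq_mul_left (by positivity) h1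
  have hFH : F ≤ H.map B.subtype := by
    rw [closure_le]
    rintro _ ⟨b, hb, rfl⟩
    exact ⟨⟨b, hb⟩ * ⟨b, hb⟩, mul_self_mem_of_index_two hi _, rfl⟩
  have h2 : H = ⊤ := by
    rw [eq_top_iff]
    intro b _
    have h3 : (b : G) ∈ F := by rw [hEq]; exact b.2
    obtain ⟨b', hb', he⟩ := hFH h3
    have : b' = b := Subtype.ext he
    rwa [← this]
  rw [h2, index_top] at hi
  omega

theorem isPGroup_of_le_odd_eq_one {x : G} [Finite G] {B : Subgroup G} (hB : IsPGroup 2 B) (hx : x ∈ B)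
    (ho : Odd (orderOf x)) : x = 1 := by
  have : Fact (Nat.Prime 2) := ⟨Nat.prime_two⟩
  obtain ⟨k, hk⟩ := (IsPGroup.iff_orderOf.1 hB) ⟨x, hx⟩
  rw [orderOf_mk] at hk
  rw [← orderOf_eq_one_iff, hk]
  rcases Nat.eq_zero_or_pos k with h0 | h0
  · rw [h0, pow_zero]
  · exfalso
    rw [hk, Nat.odd_iff] at ho
    obtain ⟨m, rfl⟩ := Nat.exists_eq_succ_of_ne_zero h0.ne'
    rw [pow_succ] at ho
    omega

/-- coprime action on a coset -/
theorem comm_of_mod [Finite G] {x : G} (ho : Odd (orderOf x)) {F : Subgroup G} (hF : IsPGroup 2 F)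
    (hxF : ∀ f ∈ F, x * f * x⁻¹ = f) {b : G} (hb : b⁻¹ * (x * b * x⁻¹) ∈ F) : x * b * x⁻¹ = b := by
  set f := b⁻¹ * (x * b * x⁻¹) with hf
  have hxb : x * b * x⁻¹ = b * f := by rw [hf]; group
  have h1 : ∀ n : ℕ, x ^ n * b * (x ^ n)⁻¹ = b * f ^ n := by
    intro n
    induction n with
    | zero => simp
    | succ n ih =>
      have h2 : x * f ^ n * x⁻¹ = f ^ n := hxF _ (F.pow_mem hb n)
      calc x ^ (n + 1) * b * (x ^ (n + 1))⁻¹ = x * (x ^ n * b * (x ^ n)⁻¹) * x⁻¹ := by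
            rw [pow_succ' x n]; group
        _ = (x * b * x⁻¹) * (x * f ^ n * x⁻¹) := by rw [ih]; group
        _ = b * f * f ^ n := by rw [hxb, h2]
        _ = b * f ^ (n + 1) := by rw [pow_succ' f n]; group
  have h3 := h1 (orderOf x)
  rw [pow_orderOf_eq_one, one_mul, inv_one, mul_one] at h3
  have h4 : f ^ orderOf x = 1 := (mul_eq_left.1 h3.symm)
  have h5 : f = 1 := by
    apply isPGroup_of_le_odd_eq_one hF hb
    exact Odd.of_dvd_nat ho (orderOf_dvd_of_pow_eq_one h4)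
  rw [hxb, h5, mul_one]

/-- if `x ^ 2` centralizes `v` then `x` does (odd order) -/
theorem comm_of_sq [Finite G] {x v : G} (ho : Odd (orderOf x)) (h : x * (x * v * x⁻¹) * x⁻¹ = v) :
    x * v * x⁻¹ = v := by
  obtain ⟨k, hk⟩ := ho
  have h1 : ∀ n : ℕ, (x ^ 2) ^ n * v * ((x ^ 2) ^ n)⁻¹ = v := by
    intro n
    induction n with
    | zero => simp
    | succ n ih =>
      calc (x ^ 2) ^ (n + 1) * v * ((x ^ 2) ^ (n + 1))⁻¹
          = (x ^ 2) ^ n * (x * (x * v * x⁻¹) * x⁻¹) * ((x ^ 2) ^ n)⁻¹ := by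
            rw [pow_succ (x ^ 2) n, pow_two]; group
        _ = v := by rw [h, ih]
  have h2 := h1 (k + 1)
  have h3 : (x ^ 2) ^ (k + 1) = x := by
    rw [← pow_mul]
    have : 2 * (k + 1) = orderOf x + 1 := by omega
    rw [this, pow_succ, pow_orderOf_eq_one, one_mul]
  rwa [h3] at h2

/-- the core computation -/
theorem REq.core [Finite G] {c : ℕ} (h : REq G c) {x : G} (hx : Real' x) (ho : Odd (orderOf x))
    {B F : Subgroup G} [hBn : B.Normal] [hFn : F.Normal] (hB : IsPGroup 2 B) (hFB : F ≤ B)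
    (hsq : ∀ b ∈ B, b * b ∈ F) (hxF : ∀ f ∈ F, x * f * x⁻¹ = f) : ∀ b ∈ B, x * b * x⁻¹ = b := by
  have : Fact (Nat.Prime 2) := ⟨Nat.prime_two⟩
  by_contra hcon
  push Not at hcon
  obtain ⟨b₀, hb₀, hb₀x⟩ := hcon
  have hF : IsPGroup 2 F := hB.to_le hFB
  have hx1 : x ≠ 1 := by
    rintro rfl
    apply hb₀x
    simp
  have hxx : x * x ≠ 1 := by
    intro h2
    apply hx1
    rw [← orderOf_eq_one_iff]
    have h3 : orderOf x ∣ 2 := orderOf_dvd_of_pow_eq_one (by rw [pow_two]; exact h2)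
    rcases (Nat.dvd_prime Nat.prime_two).1 h3 with h4 | h4
    · exact h4
    · rw [h4] at ho
      exact absurd ho (by decide)
  -- the quotient
  let π : G →* G ⧸ F := QuotientGroup.mk' F
  have hker : ∀ g : G, π g = 1 ↔ g ∈ F := fun g => QuotientGroup.eq_one_iff g
  let V : Subgroup (G ⧸ F) := B.map π
  have hVsq : ∀ v ∈ V, v * v = 1 := by
    rintro _ ⟨b, hb, rfl⟩
    rw [← map_mul, hker]
    exact hsq b hb
  have hVinv : ∀ v ∈ V, v⁻¹ = v := fun v hv => inv_eq_of_mul_eq_one_right (hVsq v hv)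
  have hVc : ∀ v ∈ V, ∀ w ∈ V, v * w = w * v := by
    intro v hv w hw
    have h1 := hVinv _ (V.mul_mem hv hw)
    rw [mul_inv_rev, hVinv v hv, hVinv w hw] at h1
    exact h1.symm
  have hVconj : ∀ (g : G ⧸ F), ∀ v ∈ V, g * v * g⁻¹ ∈ V := by
    intro g v hv
    obtain ⟨g, rfl⟩ := QuotientGroup.mk'_surjective F g
    obtain ⟨b, hb, rfl⟩ := hv
    exact ⟨g * b * g⁻¹, hBn.conj_mem b hb g, by rw [map_mul, map_mul, map_inv]⟩
  let X := π x
  have hXo : Odd (orderOf X) := Odd.of_dvd_nat ho (orderOf_map_dvd π x)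
  -- the subgroup `[V, X]`
  let W : Subgroup (G ⧸ F) :=
    { carrier := {w | ∃ v ∈ V, v * (X * v * X⁻¹) = w}
      one_mem' := ⟨1, V.one_mem, by simp⟩
      mul_mem' := by
        rintro _ _ ⟨v, hv, rfl⟩ ⟨w, hw, rfl⟩
        refine ⟨v * w, V.mul_mem hv hw, ?_⟩
        have h1 := hVc w hw (X * v * X⁻¹) (hVconj X v hv)
        calc v * w * (X * (v * w) * X⁻¹) = v * (w * (X * v * X⁻¹)) * (X * w * X⁻¹) := by group
          _ = v * ((X * v * X⁻¹) * w) * (X * w * X⁻¹) := by rw [h1]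
          _ = v * (X * v * X⁻¹) * (w * (X * w * X⁻¹)) := by group
      inv_mem' := by
        rintro _ ⟨v, hv, rfl⟩
        refine ⟨v, hv, ?_⟩
        have h1 : v * (X * v * X⁻¹) ∈ V := V.mul_mem hv (hVconj X v hv)
        rw [hVinv _ h1] }
  have hWV : W ≤ V := by
    rintro _ ⟨v, hv, rfl⟩
    exact V.mul_mem hv (hVconj X v hv)
  have hWne : W ≠ ⊥ := by
    intro hW
    have h1 : π b₀ * (X * π b₀ * X⁻¹) ∈ W := ⟨π b₀, ⟨b₀, hb₀, rfl⟩, rfl⟩
    rw [hW, mem_bot] at h1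
    have h2 : X * π b₀ * X⁻¹ = π b₀ := by
      have h3 := eq_inv_of_mul_eq_one_right h1
      rw [h3, hVinv _ ⟨b₀, hb₀, rfl⟩]
    apply hb₀x
    apply comm_of_mod ho hF hxF
    rw [← hker, map_mul, map_inv, map_mul, map_mul, map_inv]
    change (π b₀)⁻¹ * (X * π b₀ * X⁻¹) = 1
    rw [h2, inv_mul_cancel]
  -- a Sylow 2-subgroup of `cst x`
  obtain ⟨S, hSle, -, hS2, hSc⟩ := exists_sylow (cst x) (A := ⊥) IsPGroup.of_bot bot_le
  have hSconj : ∀ s ∈ S.map π, ∀ w ∈ W, s * w * s⁻¹ ∈ W := by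
    rintro _ ⟨s, hs, rfl⟩ _ ⟨v, hv, rfl⟩
    rcases hSle hs with h1 | h1
    · refine ⟨π s * v * (π s)⁻¹, hVconj _ v hv, ?_⟩
      have h2 : π s * X * (π s)⁻¹ = X := by
        change π s * π x * (π s)⁻¹ = π x
        rw [← map_mul, ← map_inv, ← map_mul, h1]
      calc π s * v * (π s)⁻¹ * (X * (π s * v * (π s)⁻¹) * X⁻¹)
          = π s * v * (π s)⁻¹ * ((π s * X * (π s)⁻¹) * (π s * v * (π s)⁻¹) * (π s * X * (π s)⁻¹)⁻¹) := by
            rw [h2]
        _ = π s * (v * (X * v * X⁻¹)) * (π s)⁻¹ := by group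
    · have h2 : π s * X * (π s)⁻¹ = X⁻¹ := by
        change π s * π x * (π s)⁻¹ = (π x)⁻¹
        rw [← map_mul, ← map_inv, ← map_mul, h1, map_inv]
      let v' := X⁻¹ * (π s * v * (π s)⁻¹) * X
      have hv' : v' ∈ V := by
        have := hVconj X⁻¹ _ (hVconj (π s) v hv)
        rwa [inv_inv] at this
      refine ⟨v', hv', ?_⟩
      have h3 : X * v' * X⁻¹ = π s * v * (π s)⁻¹ := by
        change X * (X⁻¹ * (π s * v * (π s)⁻¹) * X) * X⁻¹ = _
        group
      rw [h3, hVc v' hv' _ (hVconj (π s) v hv)]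
      have h4 : v' = (π s * X * (π s)⁻¹) * (π s * v * (π s)⁻¹) * (π s * X * (π s)⁻¹)⁻¹ := by
        rw [h2, inv_inv]
      rw [h4]
      group
  obtain ⟨w, hwW, hw1, hwS⟩ := Cfsg.Agent.HexOut.exists_central (hS2.map π) ((hB.map π).to_le hWV) hSconj hWne
  obtain ⟨u, hu, huw⟩ := hWV hwW
  -- `X` does not commute with `w`
  have hXw : X * w * X⁻¹ ≠ w := by
    intro h1
    obtain ⟨v, hv, hvw⟩ := hwW
    apply hw1
    have h2 : X * (X * v * X⁻¹) * X⁻¹ = v := by
      have h3 : X * w * X⁻¹ = (X * v * X⁻¹) * (X * (X * v * X⁻¹) * X⁻¹) := by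
        rw [← hvw]; group
      rw [h1, ← hvw, hVc v hv _ (hVconj X v hv)] at h3
      exact (mul_left_cancel h3).symm
    have h4 := comm_of_sq hXo h2
    rw [h4] at hvw
    rw [← hvw]
    exact hVsq v hv
  -- the real element
  set u' := x * u * x⁻¹ with hu'
  have huu : u' * u' = u * u := by
    have h1 := hxF (u * u) (hsq u hu)
    calc u' * u' = x * (u * u) * x⁻¹ := by rw [hu']; group
      _ = u * u := h1
  set r := u * u'⁻¹ with hr
  have hru : u⁻¹ * r * u = r⁻¹ := by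
    calc u⁻¹ * r * u = u'⁻¹ * u := by rw [hr]; group
      _ = u'⁻¹ * (u * u) * u⁻¹ := by group
      _ = u'⁻¹ * (u' * u') * u⁻¹ := by rw [huu]
      _ = r⁻¹ := by rw [hr]; group
  have hrr : Real' r := ⟨u⁻¹, by rw [inv_inv]; exact hru⟩
  have hrc : r ∉ center G := by
    intro hrc
    apply hXw
    have h1 : π r = w * (X * w * X⁻¹) := by
      rw [hr, hu']
      change π (u * (x * u * x⁻¹)⁻¹) = w * (π x * w * (π x)⁻¹)
      rw [← huw, map_mul, map_inv, map_mul, map_mul, map_inv]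
      congr 1
      exact hVinv _ (hVconj X _ ⟨u, hu, rfl⟩)
    have h2 : X * π r * X⁻¹ = π r := by
      change π x * π r * (π x)⁻¹ = π r
      rw [← map_mul, ← map_inv, ← map_mul, mem_center_iff.1 hrc x, mul_inv_cancel_right]
    rw [h1] at h2
    have hwV : w ∈ V := hWV hwW
    have h3 : (X * w * X⁻¹) * (X * (X * w * X⁻¹) * X⁻¹) = (X * w * X⁻¹) * w := by
      calc (X * w * X⁻¹) * (X * (X * w * X⁻¹) * X⁻¹) = X * (w * (X * w * X⁻¹)) * X⁻¹ := by group
        _ = w * (X * w * X⁻¹) := h2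
        _ = (X * w * X⁻¹) * w := hVc w hwV _ (hVconj X w hwV)
    exact comm_of_sq hXo (mul_left_cancel h3)
  have hxc : x ∉ center G := by
    intro hxc
    apply hb₀x
    rw [← mem_center_iff.1 hxc b₀, mul_inv_cancel_right]
  have hcx := h x hx hxc
  have hcr := h r hrr hrc
  have hcst := nu_cst hx hxx
  -- for `s ∈ S` we have `s u s⁻¹ = u f`
  have hsu : ∀ s ∈ S, ∃ f ∈ F, s * u * s⁻¹ = u * f := by
    intro s hs
    refine ⟨u⁻¹ * (s * u * s⁻¹), ?_, by group⟩
    rw [← hker, map_mul, map_inv, map_mul, map_mul, map_inv, huw, hwS (π s) ⟨s, hs, rfl⟩]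
    group
  -- `S₀`
  let S₀ : Subgroup G := S ⊓ centralizer ({x} : Set G)
  have hS₀r : S₀ ≤ centralizer ({r} : Set G) := by
    intro s hs'
    have hs : s ∈ S := (mem_inf.1 hs').1
    have hsx := mem_cent.1 (mem_inf.1 hs').2
    rw [mem_cent]
    obtain ⟨f, hf, hsf⟩ := hsu s hs
    have h1 : s * u' * s⁻¹ = u' * f := by
      calc s * u' * s⁻¹ = (s * x * s⁻¹) * (s * u * s⁻¹) * (s * x * s⁻¹)⁻¹ := by rw [hu']; group
        _ = x * (u * f) * x⁻¹ := by rw [hsx, hsf]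
        _ = u' * (x * f * x⁻¹) := by rw [hu']; group
        _ = u' * f := by rw [hxF f hf]
    calc s * r * s⁻¹ = (s * u * s⁻¹) * (s * u' * s⁻¹)⁻¹ := by rw [hr]; group
      _ = r := by rw [hsf, h1, hr]; group
  -- an element of `S` inverting `x`
  have hSc' : nu (Nat.card S) = c + 1 := by rw [hSc, nu_two_pow]; omega
  have hex : ∃ t ∈ S, t * x * t⁻¹ ≠ x := by
    by_contra hcon
    push Not at hcon
    have h1 : S ≤ centralizer ({x} : Set G) := fun s hs => mem_cent.2 (hcon s hs)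
    have h2 := nu_card_le h1
    omega
  obtain ⟨t, htS, htx⟩ := hex
  have htx' : t * x * t⁻¹ = x⁻¹ := (hSle htS).resolve_left htx
  -- `|S₀| = 2 ^ c`
  have hS₀c : c ≤ nu (Nat.card S₀) := by
    have h2 : Nat.card S = 2 * Nat.card S₀ := by
      have h3 : (S₀.subgroupOf S).index = 2 := by
        rw [index_eq_two_iff]
        refine ⟨⟨t, htS⟩, ?_⟩
        rintro ⟨b, hb⟩
        have hmem : ∀ (g : G) (hg : g ∈ S), (⟨g, hg⟩ : S) ∈ S₀.subgroupOf S ↔ g * x * g⁻¹ = x := by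
          intro g hg
          rw [mem_subgroupOf]
          change g ∈ S ⊓ centralizer ({x} : Set G) ↔ _
          rw [mem_inf, mem_cent]
          exact ⟨fun h => h.2, fun h => ⟨hg, h⟩⟩
        change Xor' ((⟨b * t, S.mul_mem hb htS⟩ : S) ∈ S₀.subgroupOf S) ((⟨b, hb⟩ : S) ∈ S₀.subgroupOf S)
        rw [hmem, hmem]
        have h4 : b * t * x * (b * t)⁻¹ = (b * x * b⁻¹)⁻¹ := by
          calc b * t * x * (b * t)⁻¹ = b * (t * x * t⁻¹) * b⁻¹ := by group
            _ = (b * x * b⁻¹)⁻¹ := by rw [htx']; group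
        rw [h4]
        have hxi : x⁻¹ ≠ x := by rw [← htx']; exact htx
        rcases hSle hb with h5 | h5
        · right
          exact ⟨h5, by rw [h5]; exact hxi⟩
        · left
          exact ⟨by rw [h5, inv_inv], by rw [h5]; exact hxi⟩
      have h5 := card_mul_index (S₀.subgroupOf S)
      have h6 : Nat.card (S₀.subgroupOf S) = Nat.card S₀ :=
        Nat.card_congr (subgroupOfEquivOfLe (inf_le_left : S₀ ≤ S)).toEquiv
      rw [h3, h6] at h5
      omega
    have h6 : nu (Nat.card S) = 1 + nu (Nat.card S₀) := by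
      rw [h2, nu_mul (by norm_num) (card_ne _), nu_two]
    omega
  -- `y` with `y * y = x`
  obtain ⟨k, hk⟩ := ho
  let y := x ^ (k + 1)
  have hyy : y * y = x := by
    change x ^ (k + 1) * x ^ (k + 1) = x
    rw [← pow_add]
    have : k + 1 + (k + 1) = orderOf x + 1 := by omega
    rw [this, pow_succ, pow_orderOf_eq_one, one_mul]
  have hyt : y * t * y⁻¹ = x * t := by
    have h1 : t * y⁻¹ * t⁻¹ = y := by
      change t * (x ^ (k + 1))⁻¹ * t⁻¹ = x ^ (k + 1)
      rw [← conj_inv, ← conj_pow, htx', inv_pow, inv_inv]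
    calc y * t * y⁻¹ = y * (t * y⁻¹ * t⁻¹) * t := by group
      _ = x * t := by rw [h1, hyy]
  let P₂ : Subgroup G := S.map (MulAut.conj y).toMonoidHom
  have hP₂ : IsPGroup 2 P₂ := hS2.map _
  have hxtP : x * t ∈ P₂ := ⟨t, htS, by
    rw [← hyt]
    rfl⟩
  have hS₀P : S₀ ≤ P₂ := by
    intro s hs'
    have hs : s ∈ S := (mem_inf.1 hs').1
    have hsx := mem_cent.1 (mem_inf.1 hs').2
    refine ⟨s, hs, ?_⟩
    change y * s * y⁻¹ = s
    have h1 : s * y * s⁻¹ = y := by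
      change s * x ^ (k + 1) * s⁻¹ = x ^ (k + 1)
      rw [← conj_pow, hsx]
    calc y * s * y⁻¹ = (s * y * s⁻¹) * s * y⁻¹ := by rw [h1]
      _ = s := by group
  have hE : IsPGroup 2 (B ⊔ P₂ : Subgroup G) := hB.to_sup_of_normal_left hP₂
  -- `g = u⁻¹ x t` centralizes `r`
  have hgr : u⁻¹ * (x * t) ∈ centralizer ({r} : Set G) := by
    rw [mem_cent]
    obtain ⟨f, hf, htf⟩ := hsu t htS
    have hxf : x⁻¹ * f * x = f := by
      calc x⁻¹ * f * x = x⁻¹ * (x * f * x⁻¹) * x := by rw [hxF f hf]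
        _ = f := by group
    have h1 : t * u' * t⁻¹ = (x⁻¹ * u * x) * f := by
      calc t * u' * t⁻¹ = (t * x * t⁻¹) * (t * u * t⁻¹) * (t * x * t⁻¹)⁻¹ := by rw [hu']; group
        _ = (x⁻¹ * u * x) * (x⁻¹ * f * x) := by rw [htx', htf]; group
        _ = (x⁻¹ * u * x) * f := by rw [hxf]
    have h2 : t * r * t⁻¹ = u * (x⁻¹ * u * x)⁻¹ := by
      calc t * r * t⁻¹ = (t * u * t⁻¹) * (t * u' * t⁻¹)⁻¹ := by rw [hr]; group
        _ = u * (x⁻¹ * u * x)⁻¹ := by rw [htf, h1]; group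
    have h3 : (x * t) * r * (x * t)⁻¹ = r⁻¹ := by
      calc (x * t) * r * (x * t)⁻¹ = x * (t * r * t⁻¹) * x⁻¹ := by group
        _ = r⁻¹ := by rw [h2, hr, hu']; group
    calc u⁻¹ * (x * t) * r * (u⁻¹ * (x * t))⁻¹ = u⁻¹ * ((x * t) * r * (x * t)⁻¹) * u := by group
      _ = (u⁻¹ * r * u)⁻¹ := by rw [h3]; group
      _ = r := by rw [hru, inv_inv]
  let L : Subgroup G := (B ⊔ P₂) ⊓ centralizer ({r} : Set G)
  have hL : IsPGroup 2 L := hE.to_inf_left
  have hS₀L : S₀ ≤ L := le_inf (hS₀P.trans le_sup_right) hS₀r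
  have hLS : L = S₀ := by
    obtain ⟨n, hn, hn'⟩ := exists_pow_of_two hL (inf_le_right : L ≤ centralizer ({r} : Set G))
    symm
    apply eq_of_le_of_card_ge hS₀L
    rw [hcr] at hn'
    have h1 : 2 ^ c ∣ Nat.card S₀ := dvd_of_le_nu (card_ne _) hS₀c
    have h2 := Nat.le_of_dvd Nat.card_pos h1
    rw [hn]
    exact (Nat.pow_le_pow_right (by norm_num) hn').trans h2
  have hgL : u⁻¹ * (x * t) ∈ L := by
    refine mem_inf.2 ⟨?_, hgr⟩
    exact (B ⊔ P₂).mul_mem (mem_sup_left (B.inv_mem hu)) (mem_sup_right hxtP)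
  rw [hLS] at hgL
  have hgx := mem_cent.1 (mem_inf.1 hgL).2
  have h7 : u⁻¹ * x⁻¹ * u = x := by
    calc u⁻¹ * x⁻¹ * u = u⁻¹ * (x * (t * x * t⁻¹) * x⁻¹) * u := by rw [htx']; group
      _ = u⁻¹ * (x * t) * x * (u⁻¹ * (x * t))⁻¹ := by group
      _ = x := hgx
  have h8 : x * x ∈ B := by
    have h9 : x * x = u⁻¹ * (x⁻¹ * u * x) := by
      calc x * x = (u⁻¹ * x⁻¹ * u) * x := by rw [h7]
        _ = u⁻¹ * (x⁻¹ * u * x) := by group
    rw [h9]
    have h10 := hBn.conj_mem u hu x⁻¹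
    rw [inv_inv] at h10
    exact B.mul_mem (B.inv_mem hu) h10
  apply hxx
  apply isPGroup_of_le_odd_eq_one hB h8
  have h9 : orderOf (x * x) ∣ orderOf x := by
    rw [← pow_two]
    exact orderOf_pow_dvd 2
  exact Odd.of_dvd_nat ⟨k, hk⟩ h9

/-- (O): real elements of odd order centralize the normal 2-subgroups. -/
theorem REq.comm_of_normal [Finite G] {c : ℕ} (h : REq G c) {x : G} (hx : Real' x) (ho : Odd (orderOf x))
    (B : Subgroup G) [hBn : B.Normal] (hB : IsPGroup 2 B) : ∀ b ∈ B, x * b * x⁻¹ = b := by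
  induction hn : Nat.card B using Nat.strong_induction_on generalizing B with
  | _ n ih =>
    by_cases hne : B = ⊥
    · intro b hb
      rw [hne, mem_bot] at hb
      rw [hb]
      simp
    obtain ⟨F, hFn, hFB, hsq⟩ := exists_sq_sub B hB hne
    have hF := ih (Nat.card F) (by
      rw [← hn]
      have : (F : Set G) ⊂ (B : Set G) := hFB
      exact Set.ncard_lt_ncard this (Set.toFinite _)) F (hB.to_le hFB.le) rfl
    exact h.core hx ho hB hFB.le hsq hF

end Cfsg.Agent.H466.RT
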