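import Cfsg.Agent.H466.RT.Comp

/-!
# Quaternion subgroups of `K / Z(K)`

`Bad L`: the group `L` has a real element of order 4 whose square is not central. If `L / Z(L)` contains a
quaternion group of order 8 and `Z(L)` is cyclic, or if the three subgroups of order 4 of the quaternion
group are permuted by an element, then `L` is bad. No pair `M`, `K` with `K` bad.
-/

set_option autoImplicit false

namespace Cfsg.Agent.H466.RT

open Subgroup Cfsg

/-- `L` has a real element of order 4 whose square is not central. -/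
def Bad (L : Type*) [Group L] : Prop :=
  ∃ u : L, Real' u ∧ u * u ≠ 1 ∧ u * u * (u * u) = 1 ∧ u * u ∉ center L

theorem Bad.of_equiv {L L' : Type*} [Group L] [Group L'] (e : L ≃* L') (h : Bad L) : Bad L' := by
  obtain ⟨u, ⟨g, hg⟩, h1, h2, h3⟩ := h
  refine ⟨e u, ⟨e g, by rw [← map_mul, ← map_inv, ← map_mul, hg, map_inv]⟩, ?_, ?_, ?_⟩
  · rw [← map_mul]
    exact fun h => h1 ((map_eq_one_iff e e.injective).1 h)
  · rw [← map_mul, ← map_mul, h2, map_one]
  · intro h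
    apply h3
    rw [mem_center_iff] at h ⊢
    intro k
    apply e.injective
    have := h (e k)
    rwa [← map_mul, ← map_mul, ← map_mul] at this

theorem Pair.not_bad {M : Type*} [Group M] [Finite M] {K : Subgroup M} {c : ℕ} (h : Pair M K c) : ¬ Bad K := by
  rintro ⟨u, ⟨g, hg⟩, h1, h2, h3⟩
  have hd : ∃ k ∈ K, k * ((u * u : K) : M) ≠ ((u * u : K) : M) * k := by
    by_contra hcon
    push Not at hcon
    apply h3
    rw [mem_center_iff]
    intro k
    exact Subtype.ext (hcon k k.2)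
  have hu : ∃ k ∈ K, k * (u : M) ≠ (u : M) * k := by
    obtain ⟨k, hk, hne⟩ := hd
    refine ⟨k, hk, fun h4 => hne ?_⟩
    rw [coe_mul, ← mul_assoc, h4, mul_assoc, h4, mul_assoc]
  have hur : Real' (u : M) := ⟨g, congrArg Subtype.val hg⟩
  have h5 := h.req u u.2 hur hu
  have hdd : ((u * u : K) : M) * ((u * u : K) : M) = 1 := congrArg Subtype.val h2
  have h6 := h.req ((u * u : K) : M) (u * u).2 (Real'.of_sq hdd) hd
  have h7 := nu_cst hur (by
    intro h8
    exact h1 (Subtype.ext h8))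
  have h8 := nu_card_le (cst_le_of_mem_zpowers (u := (u : M)) (d := ((u * u : K) : M))
    ⟨2, by rw [coe_mul]; exact zpow_two _⟩ hdd)
  omega

section Core

variable {L : Type*} [Group L]

/-- lifts of quaternion generators -/
theorem core {a b c : L} (hc : a⁻¹ * b⁻¹ * a * b = c) (ha : a * a * c⁻¹ ∈ center L)
    (hb : b * b * c⁻¹ ∈ center L) : c * a = a * c ∧ c * b = b * c ∧ c * c = 1 := by
  have h1 : c * a = a * c := by
    have h2 := mem_center_iff.1 ha a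
    have h3 : a * c⁻¹ = c⁻¹ * a := by
      have h4 : a * (a * a * c⁻¹) = a * a * (c⁻¹ * a) := by rw [h2]; group
      have h5 : a * a * (a * c⁻¹) = a * a * (c⁻¹ * a) := by rw [← h4]; group
      exact mul_left_cancel h5
    calc c * a = c * (a * c⁻¹) * c := by group
      _ = a * c := by rw [h3]; group
  have h2 : c * b = b * c := by
    have h2 := mem_center_iff.1 hb b
    have h3 : b * c⁻¹ = c⁻¹ * b := by
      have h4 : b * (b * b * c⁻¹) = b * b * (c⁻¹ * b) := by rw [h2]; group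
      have h5 : b * b * (b * c⁻¹) = b * b * (c⁻¹ * b) := by rw [← h4]; group
      exact mul_left_cancel h5
    calc c * b = c * (b * c⁻¹) * c := by group
      _ = b * c := by rw [h3]; group
  refine ⟨h1, h2, ?_⟩
  have h3 : b⁻¹ * a * b = a * c := by rw [← hc]; group
  have h4 : b⁻¹ * (a * a) * b = a * a := by
    have h5 : a * a = (a * a * c⁻¹) * c := by group
    calc b⁻¹ * (a * a) * b = b⁻¹ * ((a * a * c⁻¹) * c) * b := by rw [← h5]
      _ = (b⁻¹ * (a * a * c⁻¹)) * (c * b) := by group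
      _ = ((a * a * c⁻¹) * b⁻¹) * (b * c) := by rw [mem_center_iff.1 ha b⁻¹, h2]
      _ = a * a := by group
  have h5 : b⁻¹ * (a * a) * b = a * a * (c * c) := by
    calc b⁻¹ * (a * a) * b = (b⁻¹ * a * b) * (b⁻¹ * a * b) := by group
      _ = a * (c * a) * c := by rw [h3]; group
      _ = a * a * (c * c) := by rw [h1]; group
  rw [h4] at h5
  exact (mul_eq_left.1 h5.symm)

/-- If the central part of `a²` is a square in the centre then `L` is bad. -/
theorem bad_of_square {a b c w : L} (hc : a⁻¹ * b⁻¹ * a * b = c) (hb : b * b * c⁻¹ ∈ center L)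
    (hw : w ∈ center L) (ha : a * a * c⁻¹ = w * w) (hcc : c ∉ center L) : Bad L := by
  obtain ⟨h1, -, h3⟩ := core hc (by rw [ha]; exact (center L).mul_mem hw hw) hb
  have hwi : ∀ g, g * w⁻¹ = w⁻¹ * g := fun g => mem_center_iff.1 ((center L).inv_mem hw) g
  have hci : c⁻¹ = c := inv_eq_of_mul_eq_one_left h3
  have huu : a * w⁻¹ * (a * w⁻¹) = c := by
    have h4 : a * w⁻¹ * (a * w⁻¹) = a * a * (w * w)⁻¹ := by
      rw [mul_assoc, ← mul_assoc w⁻¹ a, ← hwi a]; group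
    have h5 : a * a = w * w * c := by rw [← ha]; group
    have h6 := mem_center_iff.1 ((center L).mul_mem hw hw) c
    rw [h4, h5, ← h6]
    group
  refine ⟨a * w⁻¹, ⟨b⁻¹, ?_⟩, ?_, ?_, ?_⟩
  · have h5 : b⁻¹ * (a * w⁻¹) * b⁻¹⁻¹ = a * c * w⁻¹ := by
      calc b⁻¹ * (a * w⁻¹) * b⁻¹⁻¹ = b⁻¹ * a * (w⁻¹ * b) := by group
        _ = b⁻¹ * a * (b * w⁻¹) := by rw [hwi]
        _ = a * (a⁻¹ * b⁻¹ * a * b) * w⁻¹ := by group
        _ = a * c * w⁻¹ := by rw [hc]
    rw [h5]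
    apply eq_inv_of_mul_eq_one_left
    calc a * c * w⁻¹ * (a * w⁻¹) = (c * a) * w⁻¹ * (a * w⁻¹) := by rw [h1]
      _ = c * (a * w⁻¹ * (a * w⁻¹)) := by group
      _ = 1 := by rw [huu, h3]
  · rw [huu]
    rintro rfl
    exact hcc (center L).one_mem
  · rw [huu, h3]
  · rw [huu]
    exact hcc

/-- relations for the pair `(b, a)` -/
theorem swap_rel {a b c : L} (hc : a⁻¹ * b⁻¹ * a * b = c) (ha : a * a * c⁻¹ ∈ center L)
    (hb : b * b * c⁻¹ ∈ center L) : b⁻¹ * a⁻¹ * b * a = c := by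
  obtain ⟨-, -, h3⟩ := core hc ha hb
  have h4 : b⁻¹ * a⁻¹ * b * a = c⁻¹ := by rw [← hc]; group
  rw [h4]
  exact inv_eq_of_mul_eq_one_left h3

/-- relations for the pair `(ab, b)` -/
theorem prod_rel {a b c : L} (hc : a⁻¹ * b⁻¹ * a * b = c) (ha : a * a * c⁻¹ ∈ center L)
    (hb : b * b * c⁻¹ ∈ center L) : (a * b)⁻¹ * b⁻¹ * (a * b) * b = c ∧
      a * b * (a * b) * c⁻¹ = (a * a * c⁻¹) * (b * b * c⁻¹) := by
  obtain ⟨h1, h2, h3⟩ := core hc ha hb
  have hci : c⁻¹ = c := inv_eq_of_mul_eq_one_left h3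
  constructor
  · calc (a * b)⁻¹ * b⁻¹ * (a * b) * b = b⁻¹ * (a⁻¹ * b⁻¹ * a * b) * b := by group
      _ = b⁻¹ * (c * b) := by rw [hc]; group
      _ = c := by rw [h2]; group
  · have h4 : b * a = a * b * c := by
      have h5 := swap_rel hc ha hb
      calc b * a = a * b * (b⁻¹ * a⁻¹ * b * a) := by group
        _ = a * b * c := by rw [h5]
    have h6 : c⁻¹ * (b * b * c⁻¹) = (b * b * c⁻¹) * c⁻¹ := mem_center_iff.1 hb c⁻¹
    have h7 : (a * a * c⁻¹) * (b * b * c⁻¹) = a * a * (b * b) := by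
      calc (a * a * c⁻¹) * (b * b * c⁻¹) = a * a * (c⁻¹ * (b * b * c⁻¹)) := by group
        _ = a * a * (b * b) * (c⁻¹ * c⁻¹) := by rw [h6]; group
        _ = a * a * (b * b) := by rw [hci, h3, mul_one]
    calc a * b * (a * b) * c⁻¹ = a * (b * a) * b * c⁻¹ := by group
      _ = a * a * b * (c * b) * c⁻¹ := by rw [h4]; group
      _ = a * a * (b * b) := by rw [h2]; group
      _ = (a * a * c⁻¹) * (b * b * c⁻¹) := h7.symm

end Core

section Quot

variable {L S : Type*} [Group L] [Group S] (π : L →* S)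

/-- quaternion generators of `S` -/
def IsQ (i j : S) : Prop := i * i = j * j ∧ i * j * (i * j) = i * i ∧ i * i ≠ 1

theorem IsQ.comm {i j : S} (h : IsQ i j) : i⁻¹ * j⁻¹ * i * j = i * i := by
  obtain ⟨h1, h2, -⟩ := h
  have h3 : j * i * j = i := by
    have : i * (j * i * j) = i * i := by rw [← h2]; group
    exact mul_left_cancel this
  have h4 : j⁻¹ * i = i * j := by
    calc j⁻¹ * i = j⁻¹ * (j * i * j) := by rw [h3]
      _ = i * j := by group
  calc i⁻¹ * j⁻¹ * i * j = i⁻¹ * (j⁻¹ * i) * j := by group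
    _ = j * j := by rw [h4]; group
    _ = i * i := h1.symm

theorem IsQ.map {S' : Type*} [Group S'] {f : S →* S'} (hf : Function.Injective f) {i j : S} (h : IsQ i j) :
    IsQ (f i) (f j) := by
  obtain ⟨h1, h2, h3⟩ := h
  refine ⟨by rw [← map_mul, h1, map_mul], by rw [← map_mul, ← map_mul, h2, map_mul], ?_⟩
  rw [← map_mul]
  exact fun h => h3 ((map_eq_one_iff f hf).1 h)

variable {π}

theorem lift_rel (hker : ∀ g, π g = 1 ↔ g ∈ center L) {a b : L} (h : IsQ (π a) (π b)) :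
    a * a * (a⁻¹ * b⁻¹ * a * b)⁻¹ ∈ center L ∧ b * b * (a⁻¹ * b⁻¹ * a * b)⁻¹ ∈ center L ∧
      a⁻¹ * b⁻¹ * a * b ∉ center L := by
  have h1 : π (a⁻¹ * b⁻¹ * a * b) = π a * π a := by
    rw [map_mul, map_mul, map_mul, map_inv, map_inv]
    exact h.comm
  refine ⟨?_, ?_, ?_⟩
  · rw [← hker, map_mul, map_inv, h1, map_mul, mul_inv_cancel]
  · rw [← hker, map_mul, map_inv, h1, map_mul, h.1, mul_inv_cancel]
  · rw [← hker, h1]
    exact h.2.2

/-- **Q8-lemma**: the centre is cyclic. -/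
theorem bad_of_quat (hπ : Function.Surjective π) (hker : ∀ g, π g = 1 ↔ g ∈ center L)
    (hcyc : IsCyclic (center L)) {i j : S} (h : IsQ i j) : Bad L := by
  obtain ⟨a, rfl⟩ := hπ i
  obtain ⟨b, rfl⟩ := hπ j
  obtain ⟨ha, hb, hcc⟩ := lift_rel hker h
  set c := a⁻¹ * b⁻¹ * a * b with hc
  obtain ⟨g, hg⟩ := hcyc.exists_generator
  obtain ⟨m, hm⟩ := mem_zpowers_iff.1 (hg ⟨_, ha⟩)
  obtain ⟨n, hn⟩ := mem_zpowers_iff.1 (hg ⟨_, hb⟩)
  have hm' : (g : L) ^ m = a * a * c⁻¹ := congrArg Subtype.val hm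
  have hn' : (g : L) ^ n = b * b * c⁻¹ := congrArg Subtype.val hn
  have hsq : ∀ k : ℤ, (g : L) ^ k ∈ center L := fun k => (center L).zpow_mem g.2 k
  rcases Int.even_or_odd m with ⟨k, hk⟩ | ⟨k, hk⟩
  · refine bad_of_square hc.symm hb (hsq k) ?_ hcc
    rw [← hm', hk, zpow_add]
  · rcases Int.even_or_odd n with ⟨l, hl⟩ | ⟨l, hl⟩
    · refine bad_of_square (swap_rel hc.symm ha hb) ha (hsq l) ?_ hcc
      rw [← hn', hl, zpow_add]
    · obtain ⟨h1, h2⟩ := prod_rel hc.symm ha hb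
      refine bad_of_square h1 hb (hsq (k + l + 1)) ?_ hcc
      rw [h2, ← hm', ← hn', hk, hl, ← zpow_add, ← zpow_add]
      congr 1
      ring

/-- **SL₂(3)-lemma**: an element permutes the three subgroups of order 4. -/
theorem bad_of_sl (hπ : Function.Surjective π) (hker : ∀ g, π g = 1 ↔ g ∈ center L)
    {i j h : S} (hQ : IsQ i j) (hi : h * i * h⁻¹ = j) (hj : h * j * h⁻¹ = i * j) : Bad L := by
  obtain ⟨a, rfl⟩ := hπ i
  obtain ⟨b, rfl⟩ := hπ j
  obtain ⟨g, rfl⟩ := hπ h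
  obtain ⟨ha, hb, hcc⟩ := lift_rel hker hQ
  set c := a⁻¹ * b⁻¹ * a * b with hc
  obtain ⟨h1, h2, h3⟩ := core hc.symm ha hb
  obtain ⟨h4, h5⟩ := prod_rel hc.symm ha hb
  -- `g a g⁻¹ = b v`, `g b g⁻¹ = a b v'`
  obtain ⟨v, hv, hav⟩ : ∃ v ∈ center L, g * a * g⁻¹ = b * v := by
    refine ⟨b⁻¹ * (g * a * g⁻¹), ?_, by group⟩
    rw [← hker, map_mul, map_mul, map_mul, map_inv, map_inv, hi, inv_mul_cancel]
  obtain ⟨v', hv', hbv⟩ : ∃ v ∈ center L, g * b * g⁻¹ = a * b * v := by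
    refine ⟨(a * b)⁻¹ * (g * b * g⁻¹), ?_, by group⟩
    rw [← hker, map_mul, map_mul, map_mul, map_inv, map_inv, hj, map_mul, inv_mul_cancel]
  have hvc : ∀ x, x * v = v * x := fun x => mem_center_iff.1 hv x
  have hvc' : ∀ x, x * v' = v' * x := fun x => mem_center_iff.1 hv' x
  have hgc : g * c * g⁻¹ = c := by
    have h6 : g * c * g⁻¹ = (g * a * g⁻¹)⁻¹ * (g * b * g⁻¹)⁻¹ * (g * a * g⁻¹) * (g * b * g⁻¹) := by
      rw [hc]; group
    rw [h6, hav, hbv]
    have hvi : ∀ x, x * v⁻¹ = v⁻¹ * x := fun x => mem_center_iff.1 ((center L).inv_mem hv) x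
    have hvi' : ∀ x, x * v'⁻¹ = v'⁻¹ * x := fun x => mem_center_iff.1 ((center L).inv_mem hv') x
    have h7 : (b * v)⁻¹ * (a * b * v')⁻¹ * (b * v) * (a * b * v') = b⁻¹ * (a * b)⁻¹ * b * (a * b) := by
      calc (b * v)⁻¹ * (a * b * v')⁻¹ * (b * v) * (a * b * v')
          = v⁻¹ * (b⁻¹ * v'⁻¹) * (a * b)⁻¹ * b * (v * (a * b * v')) := by group
        _ = v⁻¹ * (v'⁻¹ * b⁻¹) * (a * b)⁻¹ * b * (a * b * v' * v) := by rw [hvi' b⁻¹, ← hvc (a * b * v')]
        _ = v⁻¹ * v'⁻¹ * (b⁻¹ * (a * b)⁻¹ * b * (a * b)) * v' * v := by group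
        _ = v⁻¹ * v'⁻¹ * ((b⁻¹ * (a * b)⁻¹ * b * (a * b)) * v') * v := by group
        _ = v⁻¹ * v'⁻¹ * (v' * (b⁻¹ * (a * b)⁻¹ * b * (a * b))) * v := by rw [hvc']
        _ = v⁻¹ * ((b⁻¹ * (a * b)⁻¹ * b * (a * b)) * v) := by group
        _ = v⁻¹ * (v * (b⁻¹ * (a * b)⁻¹ * b * (a * b))) := by rw [hvc]
        _ = b⁻¹ * (a * b)⁻¹ * b * (a * b) := by group
    rw [h7]
    have h8 := swap_rel h4 (by rw [h5]; exact (center L).mul_mem ha hb) hb
    exact h8
  -- the central part of `a²` is a square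
  have h9 : b * b * c⁻¹ = (a * a * c⁻¹) * (b * b * c⁻¹) * (v' * v') := by
    have h10 : g * (b * b * c⁻¹) * g⁻¹ = b * b * c⁻¹ := by
      rw [mem_center_iff.1 hb g, mul_inv_cancel_right]
    calc b * b * c⁻¹ = g * (b * b * c⁻¹) * g⁻¹ := h10.symm
      _ = (g * b * g⁻¹) * (g * b * g⁻¹) * (g * c * g⁻¹)⁻¹ := by group
      _ = (a * b * v') * (a * b * v') * c⁻¹ := by rw [hbv, hgc]
      _ = (a * b) * (v' * (a * b)) * (v' * c⁻¹) := by group
      _ = (a * b) * ((a * b) * v') * (c⁻¹ * v') := by rw [← hvc' (a * b), ← hvc' c⁻¹]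
      _ = (a * b) * (a * b) * (v' * c⁻¹) * v' := by group
      _ = (a * b) * (a * b) * c⁻¹ * (v' * v') := by rw [← hvc' c⁻¹]; group
      _ = _ := by rw [h5]
  have h11 : a * a * c⁻¹ = v'⁻¹ * v'⁻¹ := by
    have h12 : (a * a * c⁻¹) * (v' * v') = 1 := by
      have h13 : (b * b * c⁻¹) * ((a * a * c⁻¹) * (v' * v')) = b * b * c⁻¹ := by
        rw [← mul_assoc, mem_center_iff.1 ha (b * b * c⁻¹)]
        exact h9.symm
      exact mul_eq_left.1 h13
    rw [eq_inv_of_mul_eq_one_left h12, mul_inv_rev]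
  exact bad_of_square hc.symm hb ((center L).inv_mem hv') h11 hcc

end Quot

end Cfsg.Agent.H466.RT
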