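import Cfsg.Agent.H466.RT.Quat
import Cfsg.Agent.S0759

/-!
# Quaternion groups with an automorphism of order 3

`HasSL X`: `X` contains quaternion generators `i`, `j` and an element mapping `i` to `j` and `j` to `i j`.
Examples: `SL(2, q)` for odd `q`; the alternating groups of degree at least 8.
-/

set_option autoImplicit false

namespace Cfsg.Agent.H466.RT

open Subgroup Cfsg

/-- a subgroup `SL(2, 3)` -/
def HasSL (X : Type*) [Group X] : Prop :=
  ∃ i j h : X, IsQ i j ∧ h * i * h⁻¹ = j ∧ h * j * h⁻¹ = i * j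

/-- a quaternion subgroup -/
def HasQ (X : Type*) [Group X] : Prop := ∃ i j : X, IsQ i j

theorem HasSL.hasQ {X : Type*} [Group X] (h : HasSL X) : HasQ X := by
  obtain ⟨i, j, _, h, -⟩ := h
  exact ⟨i, j, h⟩

theorem HasQ.map {X Y : Type*} [Group X] [Group Y] {f : X →* Y} (hf : Function.Injective f) (h : HasQ X) :
    HasQ Y := by
  obtain ⟨i, j, hq⟩ := h
  exact ⟨f i, f j, hq.map hf⟩

theorem HasSL.map {X Y : Type*} [Group X] [Group Y] {f : X →* Y} (hf : Function.Injective f) (h : HasSL X) :
    HasSL Y := by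
  obtain ⟨i, j, h, hq, h1, h2⟩ := h
  exact ⟨f i, f j, f h, hq.map hf, by rw [← h1]; simp, by rw [← map_mul f i j, ← h2]; simp⟩

theorem HasSL.bad {K : Type*} [Group K] (h : HasSL (K ⧸ center K)) : Bad K := by
  obtain ⟨i, j, h, hq, h1, h2⟩ := h
  exact bad_of_sl (QuotientGroup.mk'_surjective (center K)) (fun g => QuotientGroup.eq_one_iff g) hq h1 h2

theorem HasQ.bad {K : Type*} [Group K] (h : HasQ (K ⧸ center K)) (hc : IsCyclic (center K)) : Bad K := by
  obtain ⟨i, j, hq⟩ := h
  exact bad_of_quat (QuotientGroup.mk'_surjective (center K)) (fun g => QuotientGroup.eq_one_iff g) hc hq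

section SLTwo

open Matrix

variable {F : Type*} [Field F]

theorem hasSL_sl_two [Fintype F] (h2 : (2 : F) ≠ 0) : HasSL (SpecialLinearGroup (Fin 2) F) := by
  obtain ⟨a, b, hab⟩ := Cfsg.Agent.S0759.exists_sq_add_sq (F := F)
  let I : SpecialLinearGroup (Fin 2) F := ⟨!![0, -1; 1, 0], by simp [det_fin_two]⟩
  let J : SpecialLinearGroup (Fin 2) F := ⟨!![a, b; b, -a], by
    rw [det_fin_two_of]
    linear_combination -hab⟩
  let H : SpecialLinearGroup (Fin 2) F := ⟨!![(1 + a - b) / 2, (-1 + b + a) / 2; (1 + b + a) / 2, (1 - a + b) / 2], by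
    rw [det_fin_two_of]
    field_simp
    linear_combination -2 * hab⟩
  have hII : I * I = -1 := by
    have h : !![(0 : F), -1; 1, 0] * !![0, -1; 1, 0] = -(1 : Matrix (Fin 2) (Fin 2) F) := by
      rw [mul_fin_two, one_fin_two]
      ext r s
      fin_cases r <;> fin_cases s <;> simp
    exact Subtype.ext h
  have hJJ : J * J = -1 := by
    have h : !![a, b; b, -a] * !![a, b; b, -a] = -(1 : Matrix (Fin 2) (Fin 2) F) := by
      rw [mul_fin_two, one_fin_two]
      ext r s
      fin_cases r <;> fin_cases s <;> simp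
      · linear_combination hab
      · ring
      · ring
      · linear_combination hab
    exact Subtype.ext h
  have hIJ : I * J * (I * J) = -1 := by
    have h : !![(0 : F), -1; 1, 0] * !![a, b; b, -a] * (!![(0 : F), -1; 1, 0] * !![a, b; b, -a]) =
        -(1 : Matrix (Fin 2) (Fin 2) F) := by
      rw [mul_fin_two, mul_fin_two, one_fin_two]
      ext r s
      fin_cases r <;> fin_cases s <;> simp
      · linear_combination hab
      · ring
      · ring
      · linear_combination hab
    exact Subtype.ext h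
  have hne : (-1 : SpecialLinearGroup (Fin 2) F) ≠ 1 := by
    intro h
    have h1 := congrArg (fun g : SpecialLinearGroup (Fin 2) F => (g : Matrix (Fin 2) (Fin 2) F) 0 0) h
    simp at h1
    apply h2
    linear_combination -h1
  refine ⟨I, J, H, ⟨by rw [hII, hJJ], by rw [hIJ, hII], by rw [hII]; exact hne⟩, ?_, ?_⟩
  · rw [mul_inv_eq_iff_eq_mul]
    have h : !![(1 + a - b) / 2, (-1 + b + a) / 2; (1 + b + a) / 2, (1 - a + b) / 2] * !![(0 : F), -1; 1, 0] =
        !![a, b; b, -a] * !![(1 + a - b) / 2, (-1 + b + a) / 2; (1 + b + a) / 2, (1 - a + b) / 2] := by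
      rw [mul_fin_two, mul_fin_two]
      ext r s
      fin_cases r <;> fin_cases s <;> simp <;> field_simp
      · linear_combination -hab
      · linear_combination -hab
      · linear_combination hab
      · linear_combination -hab
    exact Subtype.ext h
  · rw [mul_inv_eq_iff_eq_mul]
    have h : !![(1 + a - b) / 2, (-1 + b + a) / 2; (1 + b + a) / 2, (1 - a + b) / 2] * !![a, b; b, -a] =
        !![(0 : F), -1; 1, 0] * !![a, b; b, -a] *
          !![(1 + a - b) / 2, (-1 + b + a) / 2; (1 + b + a) / 2, (1 - a + b) / 2] := by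
      rw [mul_fin_two, mul_fin_two, mul_fin_two]
      ext r s
      fin_cases r <;> fin_cases s <;> simp <;> field_simp
      · ring
      · ring
      · ring
      · ring
    exact Subtype.ext h

end SLTwo

end Cfsg.Agent.H466.RT
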